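import Cfsg.Agent.H721.SR.Base
import Cfsg.Agent.H504.ZerosCyc
import Cfsg.Agent.H129.CycRow
import Cfsg.Agent.S1063
import Cfsg.Agent.S1066
import Cfsg.Agent.H547.SelfCent.Conway
import Cfsg.Agent.BiChar.SmallCard
import Cfsg.Agent.H713.Invol
import Cfsg.Agent.H180.KMathieu
import Cfsg.Agent.MTwelveType.SylowModel
import Cfsg.Agent.S5618
import Cfsg.Agent.S0370
import Cfsg.Agent.S0371
import Cfsg.Agent.SporadicA.MathieuRecog
import Cfsg.Agent.H994.TwoGen.M11
import Mathlib
import Cfsg.Prelude.Def_Classical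
import Cfsg.Prelude.Def_Spor_Suz
import Cfsg.Agent.LargeExtra.Cards
import Cfsg.Agent.LieClassical.SUBasic
import Cfsg.Agent.S0303
import Cfsg.Agent.S5389
import Cfsg.Agent.S1719
import Cfsg.Agent.H858.Loc7
import Cfsg.Agent.H858.Norm57
import Cfsg.Agent.H860.PartFiveSeven
import Cfsg.Agent.ThreePrime.SzRel
import Cfsg.Agent.ChevalleyStructure.Ree.Data
import Cfsg.Agent.TypeM.FactsLy
import Cfsg.Agent.MonsterX.ThOneClass
import Cfsg.Agent.CpAutON.Gen
import Cfsg.Agent.H845.HNNineteen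
import Cfsg.Agent.H680.ONThirtyOne_m3
import Cfsg.Agent.H217.Odm.Real_m3
import Cfsg.Agent.H904.HSIso
import Cfsg.Agent.H904.McLCent
import Cfsg.Agent.H898.J3Cent
import Cfsg.Agent.H603.SporElim
import Cfsg.Agent.H836.Main
import Cfsg.Agent.H839.SeventeenMain_m3
import Cfsg.Agent.H843.N23
import Cfsg.Agent.LieClassical.SympTransvection
import Cfsg.Agent.LieClassical.SympCenter
import Cfsg.Prelude.Def_Spor_He
import Cfsg.Agent.KFacts.He.Hyp
import Cfsg.Agent.SporadicRecognition.HeldCard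
import Cfsg.Agent.H537.CopOrd
import Cfsg.Agent.H604.Cop.Conway
import Cfsg.Agent.KFacts.Baby.RowB_m3
import Cfsg.Agent.BabyM.Instance
import Cfsg.Agent.LThreeB.Asm
import Cfsg.Agent.MonsterX.KDone
import Cfsg.Agent.MonsterX.Frames.J8D_m3
import Cfsg.Agent.MonsterU.Uncond
import Cfsg.Agent.H850.MonSub
import Cfsg.Agent.FastGrp
import Cfsg.Agent.Prune
set_option linter.all false

section
prune_inst 0x7ffefcfbaff83fffdfff7e7ffedddffdfdb87fffefdff9cbffec6bff0fdf4b0ac9e5fba58bea12fe0ef6e21410f87b53fffffeffe26bdc7ffffd5ff41ffbff8ffdf7b50851948c340fbc2fff03f07f8e7f3fffffffffffffffffffffffffffbeffffffffffff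

-- part: H116/SR/E6_mg
section
prune_inst 0x80002000000000020000004480000000020000008000200020003000000014004801000000a820000000000000000c00000000000000000000000000000020000000000040008000004000000000000000000000000000000000000000000000
set_option linter.all false
open scoped Cfsg.Agent.FastGrp

-- part: H116/SR/E6
section
/-!
# TEAM SR (S4971, S4970): `E₆(q)` and `²E₆(q)` have non-real elements (helper116, task 3855)

* `nrel_of_exact` : a cyclic self-centralizing subgroup of odd order `a` with `|G : T| = e` modulo `a`, `e < a` odd: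
  the non-trivial elements of `T` are not real;
* `rr_e6`, `rr_2e6` : the tori of order `(q⁶ ± q³ + 1) / (3, q ∓ 1)`, `e = 9`.
-/

set_option autoImplicit false

namespace Cfsg.Agent.H116.SR

open Cfsg Cfsg.Lie Cfsg.Agent.H721.SR Cfsg.Agent.H129.CycT Cfsg.Agent.H504.Zeros Cfsg.Agent.H504.ZeroTI

universe u

/-- **The criterion.** -/
theorem nrel_of_exact {G : Type u} [Group G] [Finite G] {a n e : ℕ} (h : CycExact G a) (hea : e < a) (h1 : 1 < a)
    (hodd : Odd a) (he : Odd e) (hn : Nat.card G = a * n) (hmod : ((n : ℤ) : ZMod a) = e) : NRel G := by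
  obtain ⟨T, hT, hc, hz⟩ := h
  have hA := cc_of_cyclic hT hz
  have hE := eIdx_of_int hA hc hea h1 (N := (n : ℤ)) (by rw [hn]; push_cast; ring) hmod
  -- the order of the normalizer is odd
  have hTN : T ≤ Subgroup.normalizer (T : Set G) := Subgroup.le_normalizer
  have hN : Odd (Nat.card (Subgroup.normalizer (T : Set G))) := by
    have h2 := (T.subgroupOf (Subgroup.normalizer (T : Set G))).card_mul_index
    have h3 : Nat.card (T.subgroupOf (Subgroup.normalizer (T : Set G))) = a := by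
      rw [← hc]
      exact Nat.card_congr (Subgroup.subgroupOfEquivOfLe hTN).toEquiv
    have h4 : (T.subgroupOf (Subgroup.normalizer (T : Set G))).index = e := hE
    rw [h3, h4] at h2
    rw [← h2]
    exact hodd.mul he
  have hne : T ≠ ⊥ := by
    rintro rfl
    rw [Subgroup.card_bot] at hc
    omega
  obtain ⟨⟨x, hx⟩, hx1'⟩ := Subgroup.ne_bot_iff_exists_ne_one.1 hne
  have hx1 : x ≠ 1 := fun h => hx1' (Subtype.ext h)
  refine ⟨x, fun hr => hx1 ?_⟩
  obtain ⟨t, ht⟩ := isConj_iff.1 hr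
  have hcx := hz x hx hx1
  have hcx' := hz x⁻¹ (T.inv_mem hx) (inv_ne_one.2 hx1)
  -- `t` normalizes `T`
  have htN : t ∈ Subgroup.normalizer (T : Set G) := by
    rw [Subgroup.mem_normalizer_iff]
    intro y
    rw [← hcx]
    conv_rhs => rw [hcx, ← hcx', ← ht]
    rw [Subgroup.mem_centralizer_singleton_iff, Subgroup.mem_centralizer_singleton_iff]
    constructor
    · intro hy
      calc t * y * t⁻¹ * (t * x * t⁻¹) = t * (y * x) * t⁻¹ := by group
        _ = t * (x * y) * t⁻¹ := by rw [hy]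
        _ = t * x * t⁻¹ * (t * y * t⁻¹) := by group
    · intro hy
      have h2 : t * (y * x) * t⁻¹ = t * (x * y) * t⁻¹ := by
        calc t * (y * x) * t⁻¹ = t * y * t⁻¹ * (t * x * t⁻¹) := by group
          _ = t * x * t⁻¹ * (t * y * t⁻¹) := hy
          _ = t * (x * y) * t⁻¹ := by group
      exact mul_left_cancel (mul_right_cancel h2)
  -- `t ^ 2` centralizes `x`
  have ht2 : t ^ 2 * x = x * t ^ 2 := by
    have h2 : t * x = x⁻¹ * t := by rw [← ht]; group
    have h3 : t * x⁻¹ = x * t := by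
      have h4 : (t * x * t⁻¹)⁻¹ = x := by rw [ht, inv_inv]
      calc t * x⁻¹ = (t * x * t⁻¹)⁻¹ * t := by group
        _ = x * t := by rw [h4]
    calc t ^ 2 * x = t * (t * x) := by rw [pow_two, mul_assoc]
      _ = (t * x⁻¹) * t := by rw [h2, mul_assoc]
      _ = x * t ^ 2 := by rw [h3, mul_assoc, pow_two]
  have hot : Odd (orderOf t) := by
    have h2 : orderOf t ∣ Nat.card (Subgroup.normalizer (T : Set G)) := by
      have := orderOf_dvd_natCard (⟨t, htN⟩ : Subgroup.normalizer (T : Set G))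
      rwa [Subgroup.orderOf_mk] at this
    exact hN.of_dvd_nat h2
  have htx : t * x = x * t := by
    obtain ⟨k, hk⟩ := hot
    have h2 : (t ^ 2) ^ (k + 1) = t := by
      rw [← pow_mul, show 2 * (k + 1) = (2 * k + 1) + 1 by ring, pow_succ, ← hk, pow_orderOf_eq_one, one_mul]
    have h3 : Commute (t ^ 2) x := ht2
    have h4 := h3.pow_left (k + 1)
    rw [h2] at h4
    exact h4
  have hx2 : x ^ 2 = 1 := by
    rw [htx, mul_inv_cancel_right] at ht
    rw [pow_two]
    exact eq_inv_iff_mul_eq_one.1 ht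
  -- `x` has odd order
  have hox : Odd (orderOf x) := by
    have h2 : orderOf x ∣ Nat.card T := by
      have := orderOf_dvd_natCard (⟨x, hx⟩ : T)
      rwa [Subgroup.orderOf_mk] at this
    rw [hc] at h2
    exact hodd.of_dvd_nat h2
  have h2 : orderOf x ∣ 2 := orderOf_dvd_of_pow_eq_one hx2
  rcases (Nat.dvd_prime Nat.prime_two).1 h2 with h3 | h3
  · exact orderOf_eq_one_iff.1 h3
  · rw [h3] at hox
    exact absurd hox (by decide)

/-- the index of the torus modulo `Φ₉(x)` -/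
theorem nine_of {R : Type*} [CommRing R] {x : R} (h : x ^ 6 + x ^ 3 + 1 = 0) :
    x ^ 36 * ((x ^ 2 - 1) * (x ^ 5 - 1) * (x ^ 6 - 1) * (x ^ 8 - 1) * (x ^ 12 - 1) * (x ^ 3 - 1)) = 9 := by
  have h9 : x ^ 9 = 1 := by linear_combination (x ^ 3 - 1) * h
  have h36 : x ^ 36 = 1 := by
    rw [show x ^ 36 = (x ^ 9) ^ 4 by ring, h9, one_pow]
  have h12 : x ^ 12 = x ^ 3 := by
    rw [show x ^ 12 = x ^ 9 * x ^ 3 by ring, h9, one_mul]
  have e1 : (x ^ 2 - 1) * (x ^ 5 - 1) * (x ^ 8 - 1) = x ^ 6 - 1 := by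
    have h15 : x ^ 15 = x ^ 6 := by rw [show x ^ 15 = x ^ 9 * x ^ 6 by ring, h9, one_mul]
    have h13 : x ^ 13 = x ^ 4 := by rw [show x ^ 13 = x ^ 9 * x ^ 4 by ring, h9, one_mul]
    have h10 : x ^ 10 = x := by rw [show x ^ 10 = x ^ 9 * x by ring, h9, one_mul]
    linear_combination h15 - h13 - h10 + (x ^ 2 - x) * h
  have e2 : (x ^ 6 - 1) * (x ^ 3 - 1) = 3 := by linear_combination (x ^ 3 - 2) * h
  have e3 : (x ^ 6 - 1) * (x ^ 6 - 1) * (x ^ 3 - 1) * (x ^ 3 - 1) = 9 := by
    have : (x ^ 6 - 1) * (x ^ 6 - 1) * (x ^ 3 - 1) * (x ^ 3 - 1) =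
      ((x ^ 6 - 1) * (x ^ 3 - 1)) * ((x ^ 6 - 1) * (x ^ 3 - 1)) := by ring
    rw [this, e2]; norm_num
  rw [h36, h12]
  linear_combination (x ^ 6 - 1) * (x ^ 3 - 1) * (x ^ 3 - 1) * e1 + e3

/-- the index of the torus of `E₆(q)` -/
def idxE (q : ℕ) : ℕ :=
  q ^ 36 * ((q ^ 2 - 1) * (q ^ 5 - 1) * (q ^ 6 - 1) * (q ^ 8 - 1) * (q ^ 12 - 1) * (q ^ 3 - 1))

/-- the index of the torus of `²E₆(q)` -/
def idxT (q : ℕ) : ℕ :=
  q ^ 36 * ((q ^ 2 - 1) * (q ^ 5 + 1) * (q ^ 6 - 1) * (q ^ 8 - 1) * (q ^ 12 - 1) * (q ^ 3 + 1))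

theorem cast_sub {q : ℕ} (hq : 1 ≤ q) (k : ℕ) : ((q ^ k - 1 : ℕ) : ℤ) = (q : ℤ) ^ k - 1 := by
  rw [Nat.cast_sub (Nat.one_le_pow _ _ hq)]
  push_cast
  ring

theorem idxE_mod {q a N : ℕ} (hq : 1 ≤ q) (ha : a ∣ N) (hN : (N : ℤ) = 1 + (q : ℤ) ^ 3 + (q : ℤ) ^ 6) :
    (((idxE q : ℕ) : ℤ) : ZMod a) = (9 : ℕ) := by
  have h1 : ((q : ZMod a)) ^ 6 + (q : ZMod a) ^ 3 + 1 = 0 := by
    have h2 := (ZMod.natCast_eq_zero_iff N a).2 ha
    have h3 : ((N : ℤ) : ZMod a) = 0 := by rw [Int.cast_natCast, h2]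
    rw [hN] at h3
    push_cast at h3
    linear_combination h3
  have h4 := nine_of h1
  unfold idxE
  simp only [Nat.cast_mul, cast_sub hq, Nat.cast_pow]
  push_cast
  exact h4

theorem idxT_mod {q a N : ℕ} (hq : 1 ≤ q) (ha : a ∣ N) (hN : (N : ℤ) = 1 - (q : ℤ) ^ 3 + (q : ℤ) ^ 6) :
    (((idxT q : ℕ) : ℤ) : ZMod a) = (9 : ℕ) := by
  have h1 : ((-(q : ZMod a))) ^ 6 + (-(q : ZMod a)) ^ 3 + 1 = 0 := by
    have h2 := (ZMod.natCast_eq_zero_iff N a).2 ha
    have h3 : ((N : ℤ) : ZMod a) = 0 := by rw [Int.cast_natCast, h2]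
    rw [hN] at h3
    push_cast at h3
    linear_combination h3
  have h4 := nine_of h1
  unfold idxT
  simp only [Nat.cast_mul, cast_sub hq, Nat.cast_pow]
  push_cast
  linear_combination h4

/-- **`E₆(q)` has non-real elements.** -/
theorem nrel_e6 {F : Type u} [Field F] [Fintype F] : NRel ↥(chevE6.group F) := by
  obtain ⟨q, hq⟩ : ∃ q, Fintype.card F = q := ⟨_, rfl⟩
  have hq2 : 2 ≤ q := by rw [← hq]; exact Fintype.one_lt_card
  set N := q ^ 6 + q ^ 3 + 1 with hNdef
  have hN : (N : ℤ) = 1 + (q : ℤ) ^ 3 + (q : ℤ) ^ 6 := by rw [hNdef]; push_cast; ring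
  have hE := exact_E6_9 hq hN
  set d := Nat.gcd 3 (q - 1) with hd
  have hd3 : d ∣ 3 := Nat.gcd_dvd_left _ _
  have hd0 : 0 < d := Nat.pos_of_dvd_of_pos hd3 (by norm_num)
  have hdN : d ∣ N := by
    have h1 : (q : ZMod d) = 1 := by
      have h7 := (ZMod.natCast_eq_zero_iff (q - 1) d).2 (Nat.gcd_dvd_right _ _)
      rw [Nat.cast_sub (by omega), Nat.cast_one] at h7
      exact sub_eq_zero.1 h7
    rw [← ZMod.natCast_eq_zero_iff, hNdef]
    push_cast
    rw [h1]
    have h3 := (ZMod.natCast_eq_zero_iff 3 d).2 hd3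
    push_cast at h3
    linear_combination h3
  obtain ⟨a, ha⟩ := hdN
  have hNa : N / d = a := by rw [ha, Nat.mul_div_cancel_left _ hd0]
  rw [hNa] at hE
  have hN73 : 73 ≤ N := by
    have h1 : 2 ^ 6 ≤ q ^ 6 := Nat.pow_le_pow_left hq2 6
    have h2 : 2 ^ 3 ≤ q ^ 3 := Nat.pow_le_pow_left hq2 3
    omega
  have hdle : d ≤ 3 := Nat.le_of_dvd (by norm_num) hd3
  have ha46 : 19 ≤ a := by
    have h3 : N ≤ 3 * a := by rw [ha]; exact Nat.mul_le_mul_right _ hdle
    omega
  have hodd : Odd a := by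
    have h1 : Odd N := by
      rw [hNdef]
      rcases q.even_or_odd with h | h
      · exact ((h.pow_of_ne_zero (by norm_num)).add (h.pow_of_ne_zero (by norm_num))).add_one
      · exact ((h.pow).add_odd (h.pow)).add_one
    rw [ha] at h1
    exact (Nat.odd_mul.1 h1).2
  have hcard : Nat.card ↥(chevE6.group F) = a * idxE q := by
    have h1 := Cfsg.Agent.S1063.result (F := F) hq
    have h2 : q ^ 9 - 1 = (q ^ 3 - 1) * (d * a) := by
      rw [← ha]
      zify [Nat.one_le_pow 9 q (by omega), Nat.one_le_pow 3 q (by omega)]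
      rw [hN]
      ring
    rw [← hd, h2] at h1
    apply Nat.eq_of_mul_eq_mul_left hd0
    rw [h1]
    unfold idxE
    ring
  exact nrel_of_exact (e := 9) hE (by omega) (by omega) hodd (by decide) hcard
    (idxE_mod (by omega) ⟨d, by rw [ha, mul_comm]⟩ hN)

/-- **`²E₆(q)` has non-real elements.** -/
theorem nrel_te6 {K : Type u} [Field K] [Fintype K] {q : ℕ} (hq : IsPrimePow q) (hK : Fintype.card K = q ^ 2) :
    NRel ↥(twistedE6 K q) := by
  have hq2 : 2 ≤ q := hq.two_le
  have hle : q ^ 3 ≤ q ^ 6 + 1 := by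
    have := Nat.pow_le_pow_right (show 0 < q by omega) (show 3 ≤ 6 by norm_num)
    omega
  set N := q ^ 6 + 1 - q ^ 3 with hNdef
  have hN : (N : ℤ) = 1 - (q : ℤ) ^ 3 + (q : ℤ) ^ 6 := by
    rw [hNdef, Nat.cast_sub hle]; push_cast; ring
  have hE := exact_tE6_18 hq hK hN
  set d := Nat.gcd 3 (q + 1) with hd
  have hd3 : d ∣ 3 := Nat.gcd_dvd_left _ _
  have hd0 : 0 < d := Nat.pos_of_dvd_of_pos hd3 (by norm_num)
  have hdN : d ∣ N := by
    have h1 : (q : ZMod d) = -1 := by
      have h7 := (ZMod.natCast_eq_zero_iff (q + 1) d).2 (Nat.gcd_dvd_right _ _)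
      push_cast at h7
      linear_combination h7
    rw [← ZMod.natCast_eq_zero_iff]
    have h3 : ((N : ℤ) : ZMod d) = 0 := by
      rw [hN]
      push_cast
      rw [h1]
      have h3 := (ZMod.natCast_eq_zero_iff 3 d).2 hd3
      push_cast at h3
      linear_combination h3
    exact_mod_cast h3
  obtain ⟨a, ha⟩ := hdN
  have hNa : N / d = a := by rw [ha, Nat.mul_div_cancel_left _ hd0]
  rw [hNa] at hE
  have hN73 : 57 ≤ N := by
    have h1 : 2 ^ 3 ≤ q ^ 3 := Nat.pow_le_pow_left hq2 3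
    have h3 : q ^ 6 = q ^ 3 * q ^ 3 := by ring
    have h4 : 8 * q ^ 3 ≤ q ^ 3 * q ^ 3 := Nat.mul_le_mul_right _ h1
    omega
  have hdle : d ≤ 3 := Nat.le_of_dvd (by norm_num) hd3
  have ha46 : 19 ≤ a := by
    have h3 : N ≤ 3 * a := by rw [ha]; exact Nat.mul_le_mul_right _ hdle
    omega
  have hodd : Odd a := by
    have h1 : Odd (N : ℤ) := by
      have e : (N : ℤ) = (q : ℤ) ^ 3 * ((q : ℤ) ^ 3 - 1) + 1 := by rw [hN]; ring
      rw [e]
      have h2 : Even ((q : ℤ) ^ 3 * ((q : ℤ) ^ 3 - 1)) := by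
        rcases Int.even_or_odd ((q : ℤ) ^ 3) with h | h
        · exact h.mul_right _
        · exact (h.sub_odd odd_one).mul_left _
      exact h2.add_one
    have h1' : Odd N := by exact_mod_cast h1
    rw [ha] at h1'
    exact (Nat.odd_mul.1 h1').2
  have hcard : Nat.card ↥(twistedE6 K q) = a * idxT q := by
    have h1 := Cfsg.Agent.S1066.result (K := K) hq hK
    have h2 : q ^ 9 + 1 = (q ^ 3 + 1) * (d * a) := by
      rw [← ha]
      zify
      rw [hN]
      ring
    rw [← hd, h2] at h1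
    apply Nat.eq_of_mul_eq_mul_left hd0
    rw [h1]
    unfold idxT
    ring
  exact nrel_of_exact (e := 9) hE (by omega) (by omega) hodd (by decide) hcard
    (idxT_mod (by omega) ⟨d, by rw [ha, mul_comm]⟩ hN)

variable {S : Type u} [Group S]

/-- the row `E₆` of TEAM SR -/
theorem nrel_of_isoE6 (h : Cfsg.Lie.IsoChevE6 S) : NRel S := by
  obtain ⟨F, _, _, ⟨e⟩⟩ := h
  exact NRel.congr e.symm nrel_e6

/-- the row `²E₆` of TEAM SR -/
theorem nrel_of_iso2E6 (h : Cfsg.Lie.Iso2E6 S) : NRel S := by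
  obtain ⟨K, _, _, q, hq, hK, ⟨e⟩⟩ := h
  exact NRel.congr e.symm (nrel_te6 hq hK)

theorem rr_e6 (h : Cfsg.Lie.IsoChevE6 S) : RR S := RR.of_nrel (nrel_of_isoE6 h)

theorem rr_2e6 (h : Cfsg.Lie.Iso2E6 S) : RR S := RR.of_nrel (nrel_of_iso2E6 h)

end Cfsg.Agent.H116.SR
end

-- part: H220/SR/Conway
section
/-!
# TEAM SR: the elements of order 23 of the Conway groups are not real (helper220, task 3866 of helper721)

An element of `Co0` inverting the cyclic shift of order 23 is monomial, and its permutation part inverts the shift in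
`M24`; but the normalizer of a Sylow 23-subgroup of `M24` has order 253.
-/

set_option autoImplicit false

namespace Cfsg.Agent.H220.SR.Conway

open Subgroup Cfsg Cfsg.Agent.H721.SR Cfsg.Agent.H547.SelfCent Cfsg.Agent.H547.SelfCent.Conway
open Cfsg.Agent.SporadicA.Co0Mono Cfsg.Agent.SporadicA.Co1Simple

/-- An element inverted by an element of odd order has square one. -/
theorem sq_of_odd {G : Type*} [Group G] {x g : G} (h : g * x * g⁻¹ = x⁻¹) {n : ℕ} (hn : Odd n) (hg : g ^ n = 1) :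
    x * x = 1 := by
  obtain ⟨k, rfl⟩ := hn
  have h1 : Commute (g * g) x := by
    have h2 : g * x⁻¹ * g⁻¹ = x := by
      have h0 := congrArg (fun y => y⁻¹) h
      simpa only [mul_assoc, _root_.mul_inv_rev, _root_.inv_inv] using h0
    have h3 : g * g * x * (g * g)⁻¹ = x := by
      calc g * g * x * (g * g)⁻¹ = g * (g * x * g⁻¹) * g⁻¹ := by group
        _ = x := by rw [h, h2]
    exact mul_inv_eq_iff_eq_mul.1 h3
  have h4 : g = ((g * g) ^ k)⁻¹ := by
    rw [eq_comm, inv_eq_iff_mul_eq_one, ← pow_two, ← pow_mul, ← pow_succ]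
    exact hg
  have h5 : Commute g x := by
    rw [h4]
    exact (h1.pow_left k).inv_left
  have h6 : x⁻¹ = x := by
    rw [← h, h5.eq, mul_inv_cancel_right]
  calc x * x = x * x⁻¹ := by rw [h6]
    _ = 1 := mul_inv_cancel x

theorem orderOf_shift : orderOf shift = 23 := by
  have : Fact (Nat.Prime 23) := ⟨by norm_num⟩
  refine orderOf_eq_prime shift_pow_23 fun h1 => ?_
  apply x23_ne_one
  rw [x23, h1, map_one]

theorem shift_not {σ : M24} (h : σ * shift * σ⁻¹ = shift⁻¹) : False := by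
  have hs : IsSimpleGroup M24 := Cfsg.Agent.S0365.result
  have hcard : Nat.card M24 = 244823040 := Cfsg.Agent.S0364.result
  have hfin : Finite M24 := Nat.finite_of_card_ne_zero (by rw [hcard]; norm_num)
  have : Fact (Nat.Prime 23) := ⟨by norm_num⟩
  have ho := orderOf_shift
  have hz : IsPGroup 23 (zpowers shift) := IsPGroup.of_card (n := 1) (by rw [Nat.card_zpowers, ho, pow_one])
  obtain ⟨P, hP⟩ := hz.exists_le_sylow
  have hPc := SporadicA.M24.Sylow23.card_P hcard P
  have heq : zpowers shift = (P : Subgroup M24) := by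
    apply Subgroup.eq_of_le_of_card_ge hP
    rw [hPc, Nat.card_zpowers, ho]
  have hc := SporadicA.M24.Sylow23.centralizer_eq hcard P
  have hc : centralizer ((P : Subgroup M24) : Set M24) = (P : Subgroup M24) := hc
  have hr : (centralizer ((P : Subgroup M24) : Set M24)).relIndex (normalizer ((P : Subgroup M24) : Set M24)) = 11 :=
    SporadicA.M24.Sylow23.relIndex_eq hcard P
  have hle := SmallSimple.SylowPrimeCount.centralizer_le_normalizer' (P : Subgroup M24)
  have hN : Nat.card (normalizer ((P : Subgroup M24) : Set M24)) = 253 := by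
    have h1 := relIndex_mul_relIndex (⊥ : Subgroup M24) _ _ bot_le hle
    rw [relIndex_bot_left, relIndex_bot_left, hr, hc, hPc] at h1
    exact h1.symm
  have hσ : σ ∈ normalizer ((P : Subgroup M24) : Set M24) := by
    rw [← heq]
    rw [mem_normalizer_iff]
    have hk : ∀ k : ℤ, σ * shift ^ k * σ⁻¹ = shift ^ (-k) := fun k => by
      rw [← _root_.conj_zpow, h, inv_zpow, zpow_neg]
    intro y
    constructor
    · intro hy
      obtain ⟨k, rfl⟩ := mem_zpowers_iff.1 hy
      rw [hk]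
      exact zpow_mem (mem_zpowers _) _
    · intro hy
      obtain ⟨k, hk'⟩ := mem_zpowers_iff.1 hy
      have h3 : y = shift ^ (-k) := by
        have h4 := hk (-k)
        rw [neg_neg, hk'] at h4
        have h5 := mul_right_cancel h4
        exact (mul_left_cancel h5).symm
      rw [h3]
      exact zpow_mem (mem_zpowers _) _
  have h7 : σ ^ 253 = 1 := by
    have h8 : (⟨σ, hσ⟩ : normalizer ((P : Subgroup M24) : Set M24)) ^ 253 = 1 := by
      rw [← hN]
      exact pow_card_eq_one'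
    exact congrArg Subtype.val h8
  have h9 := sq_of_odd h (by decide) h7
  have h10 : orderOf shift ∣ 2 := orderOf_dvd_of_pow_eq_one (by rw [pow_two]; exact h9)
  rw [ho] at h10
  norm_num at h10

/-- `x23` is not real in `Co0`. -/
theorem x23_not {g : Co0} (h : g * x23 * g⁻¹ = x23⁻¹) : False := by
  have hgN : g ∈ N := by
    apply mem_N_of_conj
    have h1 : g⁻¹ * x23 * g = x23⁻¹ := by
      have h2 : x23 = g * x23⁻¹ * g⁻¹ := by
        have h0 := congrArg (fun y => y⁻¹) h
        simpa only [mul_assoc, _root_.inv_inv, _root_.mul_inv_rev] using h0.symm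
      calc g⁻¹ * x23 * g = g⁻¹ * (g * x23⁻¹ * g⁻¹) * g := by rw [← h2]
        _ = x23⁻¹ := by group
    rw [h1]
    exact inv_mem x23_mem_N
  obtain ⟨c, σ, rfl⟩ := exists_sign_perm hgN
  refine shift_not (σ := σ) ?_
  have h0 : signCo0 c * permCo0 σ * x23 = x23⁻¹ * (signCo0 c * permCo0 σ) := mul_inv_eq_iff_eq_mul.1 h
  have h1 : signCo0 (c + wordPerm shift⁻¹ c) * permCo0 (σ * shift * (shift⁻¹ * σ)⁻¹) = 1 := by
    have h2 : permCo0 shift⁻¹ * (signCo0 c * permCo0 σ) = signCo0 (wordPerm shift⁻¹ c) * permCo0 (shift⁻¹ * σ) := by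
      rw [← mul_assoc, perm_mul_sign, map_mul, mul_assoc]
    rw [show x23⁻¹ = permCo0 shift⁻¹ from (map_inv permCo0 shift).symm, show x23 = permCo0 shift from rfl, h2] at h0
    have h3 : signCo0 c * permCo0 (σ * shift) = signCo0 (wordPerm shift⁻¹ c) * permCo0 (shift⁻¹ * σ) := by
      rw [← h0, map_mul, mul_assoc]
    rw [signCo0_add, map_mul, map_inv]
    have h4 : signCo0 c * signCo0 (wordPerm shift⁻¹ c) = signCo0 (wordPerm shift⁻¹ c) * signCo0 c := by
      rw [← signCo0_add, ← signCo0_add, add_comm]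
    calc signCo0 c * signCo0 (wordPerm shift⁻¹ c) * (permCo0 (σ * shift) * (permCo0 (shift⁻¹ * σ))⁻¹)
        = signCo0 (wordPerm shift⁻¹ c) * (signCo0 c * permCo0 (σ * shift)) * (permCo0 (shift⁻¹ * σ))⁻¹ := by
          rw [h4]; group
      _ = (signCo0 (wordPerm shift⁻¹ c) * signCo0 (wordPerm shift⁻¹ c)) := by rw [h3]; group
      _ = 1 := signCo0_mul_self _
  have h5 := perm_eq_one h1
  have h6 : σ * shift = shift⁻¹ * σ := mul_inv_eq_one.1 h5
  rw [h6, mul_inv_cancel_right]

/-- An element of order 23 of `Co0` is not real. -/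
theorem co0_not {x g : Co0} (hx : orderOf x = 23) (h : g * x * g⁻¹ = x⁻¹) : False := by
  have := finite_co0
  obtain ⟨c, -, hc2⟩ := exists_conj (by norm_num : Nat.Prime 23) (by rw [card_co0]; norm_num) orderOf_x23 hx
  obtain ⟨k, hk⟩ := mem_zpowers_iff.1 hc2
  refine x23_not (g := c * g * c⁻¹) ?_
  have h1 : c * g * c⁻¹ * (c * x * c⁻¹) * (c * g * c⁻¹)⁻¹ = (c * x * c⁻¹)⁻¹ := by
    calc c * g * c⁻¹ * (c * x * c⁻¹) * (c * g * c⁻¹)⁻¹ = c * (g * x * g⁻¹) * c⁻¹ := by group
      _ = (c * x * c⁻¹)⁻¹ := by rw [h]; group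
  rw [← hk, ← _root_.conj_zpow, h1, inv_zpow]

/-- A group embedded in `Co0` of order divisible by 23 has a non-real element. -/
theorem nrel_of_injective {G : Type*} [Group G] [Finite G] (f : G →* Co0) (hf : Function.Injective f)
    (hd : 23 ∣ Nat.card G) : NRel G := by
  have : Fact (Nat.Prime 23) := ⟨by norm_num⟩
  obtain ⟨x, hx⟩ := exists_prime_orderOf_dvd_card' 23 hd
  refine ⟨x, fun hc => ?_⟩
  obtain ⟨g, hg⟩ := isConj_iff.1 hc
  refine co0_not (x := f x) (g := f g) (by rw [orderOf_injective f hf, hx]) ?_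
  rw [← map_mul, ← map_inv, ← map_mul, hg, map_inv]

/-- `Co2` has a non-real element (of order 23). -/
theorem nrel_co2 {K : Type*} [Group K] (h : Spor.IsoCo2 K) : NRel K := by
  have hc : Nat.card K = 42305421312000 := by
    obtain ⟨e⟩ := h
    rw [Nat.card_congr e.toEquiv]
    exact Cfsg.Agent.BiChar.Small.card_Co2
  have hfin : Finite K := Nat.finite_of_card_ne_zero (by rw [hc]; norm_num)
  obtain ⟨e⟩ := h
  have hle : Spor.Co2 ≤ Co0 := inf_le_left
  exact nrel_of_injective ((Subgroup.inclusion hle).comp e.toMonoidHom)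
    ((Subgroup.inclusion_injective hle).comp e.injective) (by rw [hc]; norm_num)

/-- `Co3` has a non-real element (of order 23). -/
theorem nrel_co3 {K : Type*} [Group K] (h : Spor.IsoCo3 K) : NRel K := by
  have hc : Nat.card K = 495766656000 := by
    obtain ⟨e⟩ := h
    rw [Nat.card_congr e.toEquiv]
    exact Cfsg.Agent.BiChar.Small.card_Co3
  have hfin : Finite K := Nat.finite_of_card_ne_zero (by rw [hc]; norm_num)
  obtain ⟨e⟩ := h
  have hle : Spor.Co3 ≤ Co0 := inf_le_left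
  exact nrel_of_injective ((Subgroup.inclusion hle).comp e.toMonoidHom)
    ((Subgroup.inclusion_injective hle).comp e.injective) (by rw [hc]; norm_num)

/-- `Co1` has a non-real element (of order 23). -/
theorem nrel_co1 {K : Type*} [Group K] (h : Spor.IsoCo1 K) : NRel K := by
  obtain ⟨e⟩ := h
  refine NRel.congr e.symm ⟨QuotientGroup.mk' (center Co0) x23, fun hc => ?_⟩
  obtain ⟨g, hg⟩ := isConj_iff.1 hc
  obtain ⟨g, rfl⟩ := QuotientGroup.mk'_surjective (center Co0) g
  have hZ : Nat.card (center Co0) = 2 := Cfsg.Agent.S0398.result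
  have h4 : g * x23 * g⁻¹ * x23 ∈ center Co0 := by
    rw [← QuotientGroup.ker_mk' (center Co0), MonoidHom.mem_ker, map_mul, map_mul, map_mul, map_inv]
    rw [hg, inv_mul_cancel]
  set! z := g * x23 * g⁻¹ * x23 with hz; rewrite [← hz] at h4
  have h5 : g * x23 * g⁻¹ = z * x23⁻¹ := by rw [hz]; group
  have hz2 : z * z = 1 := by
    have h1 : (⟨z, h4⟩ : center Co0) ^ 2 = 1 := by rw [← hZ]; exact pow_card_eq_one'
    have h2 := congrArg Subtype.val h1
    rw [← pow_two]
    exact h2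
  have h6 : (g * x23 * g⁻¹) ^ 23 = 1 := by
    rw [conj_pow, x23_pow, mul_one, mul_inv_cancel]
  have h7 : Commute z x23⁻¹ := ((mem_center_iff.1 h4 x23⁻¹)).symm
  rw [h5, h7.mul_pow, inv_pow, x23_pow, inv_one, mul_one] at h6
  have h8 : z = 1 := by
    have h9 : z ^ 23 = z * (z * z) ^ 11 := by
      rw [← pow_two, ← pow_mul, ← pow_succ']
    rw [h9, hz2, one_pow, mul_one] at h6
    exact h6
  rw [h8, one_mul] at h5
  exact x23_not h5

end Cfsg.Agent.H220.SR.Conway
end

-- part: H291/SR/Mathieu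
section
/-
TEAM SR (S4971), rows of the Mathieu groups: an element of order 11 (`M₁₁`, `M₁₂`, `M₂₂`) or 23 (`M₂₃`, `M₂₄`) is
self-centralising and not real.
-/
set_option autoImplicit false

namespace Cfsg.Agent.H291.SR.Mathieu

open Cfsg Subgroup Cfsg.Agent.H721.SR
open scoped Pointwise

/-- **Self-centralising elements.** `G` acts faithfully on the invariant set `D`; `x` has one fixed point `q₀` and one
further orbit on `D`. -/
theorem mem_zpowers {G X : Type*} [Group G] [MulAction G X] {D : Set X} (hD : ∀ g : G, ∀ p ∈ D, g • p ∈ D)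
    (hf : ∀ g : G, (∀ p ∈ D, g • p = p) → g = 1) {x : G} {q₀ p₀ : X} (hq₀ : q₀ ∈ D) (hp₀ : p₀ ∈ D)
    (hq : x • q₀ = q₀) (hp : p₀ ≠ q₀) (hfix : ∀ p ∈ D, x • p = p → p = q₀)
    (horb : ∀ p ∈ D, p ≠ q₀ → ∃ k : ℕ, p = x ^ k • p₀) {c : G} (hc : c * x = x * c) : c ∈ zpowers x := by
  have h1 : c • q₀ = q₀ := by
    refine hfix _ (hD c _ hq₀) ?_
    rw [← mul_smul, ← hc, mul_smul, hq]
  have h2 : c • p₀ ≠ q₀ := fun h => hp (by
    have : c • p₀ = c • q₀ := by rw [h, h1]
    exact smul_left_cancel c this)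
  obtain ⟨k, hk⟩ := horb _ (hD c _ hp₀) h2
  have hcc : Commute c x := hc
  have h3 : (x ^ k)⁻¹ * c = 1 := by
    apply hf
    intro p hpD
    by_cases hpq : p = q₀
    · subst hpq
      rw [mul_smul, h1, inv_smul_eq_iff]
      have : ∀ n : ℕ, x ^ n • p = p := by
        intro n
        induction n with
        | zero => rw [pow_zero, one_smul]
        | succ n ih => rw [pow_succ, mul_smul, hq, ih]
      exact (this k).symm
    · obtain ⟨j, rfl⟩ := horb _ hpD hpq
      rw [← mul_smul]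
      have h4 : (x ^ k)⁻¹ * c * x ^ j = x ^ j * ((x ^ k)⁻¹ * c) := by
        have e1 : Commute ((x ^ k)⁻¹ * c) (x ^ j) :=
          (((Commute.refl x).pow_pow k j).inv_left).mul_left (hcc.pow_right j)
        exact e1.eq
      rw [h4, mul_smul, mul_smul, hk, inv_smul_smul]
  have h5 : c = x ^ k := by
    rw [inv_mul_eq_one] at h3
    exact h3.symm
  rw [h5]
  exact npow_mem_zpowers x k

theorem card_centralizer {G : Type*} [Group G] {x : G} (h : ∀ c : G, c * x = x * c → c ∈ zpowers x) :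
    Nat.card (centralizer ({x} : Set G)) = orderOf x := by
  have : centralizer ({x} : Set G) = zpowers x := by
    apply le_antisymm
    · intro c hc
      exact h c (mem_centralizer_singleton_iff.1 hc)
    · rw [zpowers_le]
      exact mem_centralizer_singleton_iff.2 rfl
  rw [this, Nat.card_zpowers]

theorem factorization_eq_one {n p : ℕ} (hp : p.Prime) (h1 : p ∣ n) (h2 : ¬ p ^ 2 ∣ n) (hn : n ≠ 0) :
    n.factorization p = 1 := by
  have e1 := (hp.dvd_iff_one_le_factorization hn).1 h1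
  have e2 : ¬ 2 ≤ n.factorization p := fun h => h2 ((hp.pow_dvd_iff_le_factorization hn).2 h)
  omega

theorem nrel_of {G : Type*} [Group G] [Finite G] {p : ℕ} (hp : p.Prime) (hp2 : p ≠ 2) {x : G} (hx : orderOf x = p)
    (h : ∀ c : G, c * x = x * c → c ∈ zpowers x) (h1 : ¬ p ^ 2 ∣ Nat.card G)
    (hodd : Odd ((Nat.card G / p) % p)) : NRel G := by
  have : Fact p.Prime := ⟨hp⟩
  refine ⟨x, Cfsg.Agent.H713.not_isConj_inv_of_odd (factorization_eq_one hp ?_ h1 Nat.card_pos.ne') hx ?_ hp2 hodd⟩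
  · rw [← hx]
    exact _root_.orderOf_dvd_natCard x
  · rw [card_centralizer h, hx]

/-! ### the elements -/

/-- `x ↦ x + 1` -/
def T : Equiv.Perm GolayPt := Equiv.optionCongr (Equiv.addRight (1 : ZMod 23))

/-- `x ↦ 2 x` -/
def M : Equiv.Perm GolayPt := Equiv.optionCongr (Units.mulLeft (ZMod.unitOfCoprime 2 (by decide)))

theorem T_mem : T ∈ M24 := Cfsg.Agent.S0370.result

theorem M_mem : M ∈ M24 := by
  refine Cfsg.Agent.S0371.result _ ⟨ZMod.unitOfCoprime 5 (by decide), ?_⟩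
  decide

theorem T_pow : T ^ 23 = 1 := by
  apply Equiv.ext
  decide +kernel

theorem M_pow : M ^ 11 = 1 := by
  apply Equiv.ext
  decide +kernel

theorem T_ne : T ≠ 1 := fun h => absurd (congrArg (fun k : Equiv.Perm GolayPt => k (some 0)) h) (by decide +kernel)

theorem M_ne : M ≠ 1 := fun h => absurd (congrArg (fun k : Equiv.Perm GolayPt => k (some 1)) h) (by decide +kernel)

theorem T_orb : ∀ p : GolayPt, p ≠ none → ∃ k : ℕ, p = (T ^ k) (some 0) := by
  have h : ∀ p : GolayPt, p ≠ none → ∃ k : Fin 23, p = (T ^ (k : ℕ)) (some 0) := by decide +kernel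
  intro p hp
  obtain ⟨k, hk⟩ := h p hp
  exact ⟨k, hk⟩

theorem orderOf_sub {K : Subgroup (Equiv.Perm GolayPt)} {g : Equiv.Perm GolayPt} (hg : g ∈ K) {p : ℕ}
    (hp : p.Prime) (h : g ^ p = 1) (h1 : g ≠ 1) : orderOf (⟨g, hg⟩ : K) = p := by
  have : Fact p.Prime := ⟨hp⟩
  rw [← Subgroup.orderOf_coe]
  exact orderOf_eq_prime h h1

/-- the 23-cycle in a subgroup -/
theorem cyc23 {K : Subgroup (Equiv.Perm GolayPt)} (hT : T ∈ K) (c : K) (hc : c * ⟨T, hT⟩ = ⟨T, hT⟩ * c) :
    c ∈ zpowers (⟨T, hT⟩ : K) := by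
  refine mem_zpowers (X := GolayPt) (D := Set.univ) (fun _ _ _ => Set.mem_univ _) ?_ (q₀ := none) (p₀ := some 0)
    (Set.mem_univ _) (Set.mem_univ _) ?_ (by decide) ?_ ?_ hc
  · intro g hg
    apply Subtype.ext
    apply Equiv.ext
    intro p
    exact hg p (Set.mem_univ _)
  · show T none = none
    decide +kernel
  · intro p _ hp
    have h : ∀ p : GolayPt, T p = p → p = none := by decide +kernel
    exact h p hp
  · intro p _ hp
    obtain ⟨k, hk⟩ := T_orb p hp
    exact ⟨k, hk⟩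

theorem nrel_m24 {G : Type*} [Group G] (h : Spor.IsoM24 G) : NRel G := by
  obtain ⟨e⟩ := h
  refine NRel.congr e.symm ?_
  have hcard : Nat.card M24 = 244823040 := Cfsg.Agent.SporadicA.M24Trans.card_M24
  have : Finite M24 := Nat.finite_of_card_ne_zero (by rw [hcard]; norm_num)
  refine nrel_of (p := 23) (by norm_num) (by norm_num) (orderOf_sub T_mem (by norm_num) T_pow T_ne) (cyc23 T_mem) ?_ ?_
  · rw [hcard]; norm_num
  · rw [hcard]; decide

theorem T_mem23 : T ∈ Spor.M23 := by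
  refine Subgroup.mem_inf.2 ⟨T_mem, ?_⟩
  rw [MulAction.mem_stabilizer_iff]
  show T none = none
  decide +kernel

theorem nrel_m23 {G : Type*} [Group G] (h : Spor.IsoM23 G) : NRel G := by
  obtain ⟨e⟩ := h
  refine NRel.congr e.symm ?_
  have hcard : Nat.card Spor.M23 = 10200960 := Cfsg.Agent.SporadicA.MathieuRecog.card_M23
  have : Finite Spor.M23 := Nat.finite_of_card_ne_zero (by rw [hcard]; norm_num)
  refine nrel_of (p := 23) (by norm_num) (by norm_num) (orderOf_sub T_mem23 (by norm_num) T_pow T_ne) (cyc23 T_mem23)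
    ?_ ?_
  · rw [hcard]; norm_num
  · rw [hcard]; decide

theorem nrel_m22 {G : Type*} [Group G] (h : Spor.IsoM22 G) : NRel G := by
  obtain ⟨e⟩ := h
  exact NRel.congr e.symm ⟨_, Cfsg.Agent.H180.KMathieu.not_isConj_e11⟩

open Cfsg.Agent.SporadicStructure.M11InvPerms Cfsg.Agent.MTwelveType.SylowModel in
theorem M_dd : ∀ p ∈ dd, M p ∈ dd := by decide +kernel

theorem M_mem12 : M ∈ Spor.M12 := MTwelveType.SylowModel.mem_M12 M_mem M_dd

theorem M_mem11 : M ∈ Spor.M11 := by
  refine Subgroup.mem_inf.2 ⟨M_mem12, ?_⟩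
  rw [MulAction.mem_stabilizer_iff]
  show M (some 0) = some 0
  decide +kernel

/-- the element of order 11 in a subgroup of `M₁₂` -/
theorem cyc11 {K : Subgroup (Equiv.Perm GolayPt)} (hK : K ≤ Spor.M12) (hM : M ∈ K) (c : K)
    (hc : c * ⟨M, hM⟩ = ⟨M, hM⟩ * c) : c ∈ zpowers (⟨M, hM⟩ : K) := by
  open Cfsg.Agent.SporadicStructure.M11InvPerms Cfsg.Agent.MTwelveType.SylowModel in
  refine mem_zpowers (X := GolayPt) (D := (dd : Set GolayPt)) ?_ ?_ (q₀ := some 0) (p₀ := some 1)
    ?_ ?_ ?_ (by decide) ?_ ?_ hc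
  · intro g p hp
    have h1 := (Subgroup.mem_inf.1 (hK g.2)).2
    rw [MulAction.mem_stabilizer_iff, squareDodecad_eq] at h1
    have h2 : (g : Equiv.Perm GolayPt) • p ∈ (g : Equiv.Perm GolayPt) • dd := Finset.smul_mem_smul_finset hp
    rw [h1] at h2
    exact h2
  · intro g hg
    have h1 := (Subgroup.mem_inf.1 (hK g.2)).2
    rw [MulAction.mem_stabilizer_iff, squareDodecad_eq] at h1
    have h2 := Cfsg.Agent.S5618.eq_one_of_fix_five dd_mem (s := dd) subset_rfl (by decide +kernel)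
      (g := ⟨g, (Subgroup.mem_inf.1 (hK g.2)).1⟩) (by
        rw [MulAction.mem_stabilizer_iff]
        exact h1) (fun p hp => hg p hp)
    have h3 : ((⟨g, (Subgroup.mem_inf.1 (hK g.2)).1⟩ : M24) : Equiv.Perm GolayPt) = ((1 : M24) : Equiv.Perm GolayPt) :=
      congrArg Subtype.val h2
    exact Subtype.ext h3
  · show (some 0 : GolayPt) ∈ dd
    decide +kernel
  · show (some 1 : GolayPt) ∈ dd
    decide +kernel
  · show M (some 0) = some 0
    decide +kernel
  · intro p hpD hp
    have h : ∀ p ∈ dd, M p = p → p = some 0 := by decide +kernel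
    exact h p hpD hp
  · intro p hpD hp
    have h : ∀ p ∈ dd, p ≠ some 0 → ∃ k : Fin 11, p = (M ^ (k : ℕ)) (some 1) := by decide +kernel
    obtain ⟨k, hk⟩ := h p hpD hp
    exact ⟨k, hk⟩

theorem nrel_m12 {G : Type*} [Group G] (h : Spor.IsoM12 G) : NRel G := by
  obtain ⟨e⟩ := h
  refine NRel.congr e.symm ?_
  have hcard : Nat.card Spor.M12 = 95040 := Cfsg.Agent.MTwelveType.SylowModel.card_M12
  have : Finite Spor.M12 := Nat.finite_of_card_ne_zero (by rw [hcard]; norm_num)
  refine nrel_of (p := 11) (by norm_num) (by norm_num) (orderOf_sub M_mem12 (by norm_num) M_pow M_ne)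
    (cyc11 le_rfl M_mem12) ?_ ?_
  · rw [hcard]; norm_num
  · rw [hcard]; decide

theorem nrel_m11 {G : Type*} [Group G] (h : Spor.IsoM11 G) : NRel G := by
  obtain ⟨e⟩ := h
  refine NRel.congr e.symm ?_
  have hcard : Nat.card Spor.M11 = 7920 := Cfsg.Agent.H994.TwoGen.M11.card_M11
  have : Finite Spor.M11 := Nat.finite_of_card_ne_zero (by rw [hcard]; norm_num)
  refine nrel_of (p := 11) (by norm_num) (by norm_num) (orderOf_sub M_mem11 (by norm_num) M_pow M_ne)
    (cyc11 inf_le_left M_mem11) ?_ ?_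
  · rw [hcard]; norm_num
  · rw [hcard]; decide

end Cfsg.Agent.H291.SR.Mathieu
end

-- part: H291/SR/Suz
section
/-! `Suz` has a non-real element: `z * y` with `C(z) = 2^(1+6) . U4(2)` and `y` of order 3 whose image in `U4(2)`
is a transvection of `PSp4(3)`, that is, the class of `diag(w, w, w, 1)`. -/

set_option autoImplicit false

namespace Cfsg.Agent.H291.SR.Suz

open Cfsg Cfsg.Agent.H721.SR Cfsg.Agent.LieClassical.SUBasic

universe u

/-- lifting an element of odd order to an element of odd order -/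
theorem exists_odd_lift {C K : Type*} [Group C] [Finite C] [Group K] (f : C →* K) (x : C)
    (hx : Odd (orderOf (f x))) : ∃ y : C, Odd (orderOf y) ∧ f y = f x := by
  obtain ⟨k, m, hm, hkm⟩ := Nat.exists_eq_two_pow_mul_odd (n := orderOf x) (orderOf_pos x).ne'
  have hco : Nat.Coprime (2 ^ k) (orderOf (f x)) :=
    Nat.Coprime.pow_left k ((Nat.coprime_two_left).2 hx)
  obtain ⟨e, he1, he2⟩ := Nat.chineseRemainder hco 0 1
  refine ⟨x ^ e, ?_, ?_⟩
  · have h1 : orderOf (x ^ e) ∣ m := by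
      apply orderOf_dvd_of_pow_eq_one
      rw [← pow_mul]
      apply orderOf_dvd_iff_pow_eq_one.1
      rw [hkm]
      exact Nat.mul_dvd_mul_right ((Nat.modEq_zero_iff_dvd).1 he1) m
    exact Odd.of_dvd_nat hm h1
  · rw [map_pow]
    have h2 : f x ^ e = f x ^ 1 := (pow_eq_pow_iff_modEq).2 he2
    rw [h2, pow_one]

section unitary

variable {F : Type*} [Field F] [Fintype F]

/-- the class of `diag(w, w, w, 1)` is not real in `PSU_4(2)` -/
theorem nreal_u4 (hF : Fintype.card F = 2 ^ 2) :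
    ∃ g : PSU 4 F 2, g ^ 3 = 1 ∧ ¬ (IsConj g g⁻¹ :) := by
  classical
  haveI : CharP F 2 := by
    obtain ⟨p, hp⟩ := CharP.exists F
    haveI := hp
    obtain ⟨n, hpp, hn⟩ := FiniteField.card F p
    rw [hF] at hn
    have h2 : p ∣ 2 ^ 2 := by rw [hn]; exact dvd_pow_self p n.ne_zero
    have h3 := (Nat.prime_dvd_prime_iff_eq hpp Nat.prime_two).1 (hpp.dvd_of_dvd_pow h2)
    subst h3
    exact hp
  obtain ⟨w, hw0, hw1⟩ : ∃ w : F, w ≠ 0 ∧ w ≠ 1 := by
    by_contra hcon
    push Not at hcon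
    have h1 : (Finset.univ : Finset F) ⊆ {0, 1} := by
      intro x _
      by_cases hx : x = 0
      · simp only [hx, _root_.Finset.mem_insert, _root_.Finset.mem_singleton, _root_.zero_ne_one, _root_.or_false]
      · simp only [hcon x hx, _root_.Finset.mem_insert, _root_.one_ne_zero, _root_.Finset.mem_singleton, _root_.or_true]
    have h2 := Finset.card_le_card h1
    rw [Finset.card_univ, hF] at h2
    have h3 := Finset.card_le_two (a := (0 : F)) (b := 1)
    omega
  have hw3 : w ^ 3 = 1 := by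
    have := FiniteField.pow_card_sub_one_eq_one w hw0
    rwa [hF] at this
  have hww : w ^ 2 + w + 1 = 0 := by
    have h1 : (w - 1) * (w ^ 2 + w + 1) = 0 := by
      have : (w - 1) * (w ^ 2 + w + 1) = w ^ 3 - 1 := by ring
      rw [this, hw3, sub_self]
    rcases mul_eq_zero.1 h1 with h | h
    · exact absurd (sub_eq_zero.1 h) hw1
    · exact h
  have h2' : (2 : F) = 0 := CharTwo.two_eq_zero
  set! a : Fin 4 → F := ![w, w, w, 1] with ha
  have had : ∏ i, a i = 1 := by
    simp only [ha, Fin.prod_univ_four, Matrix.cons_val_zero, Matrix.cons_val_one, Matrix.cons_val]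
    rw [mul_one]
    calc w * w * w = w ^ 3 := by ring
      _ = 1 := hw3
  have han : ∀ i, a i ^ (2 + 1) = 1 := by
    intro i
    fin_cases i <;> simp [ha, hw3]
  set! d : SU 4 F 2 := suDiag 2 a had han with hd
  have hd3 : d ^ 3 = 1 := by
    apply Subtype.ext
    apply Subtype.ext
    change ((Matrix.diagonal a) ^ 3 : Matrix (Fin 4) (Fin 4) F) = 1
    rw [Matrix.diagonal_pow]
    have : a ^ 3 = 1 := funext fun i => han i
    rw [this]
    exact Matrix.diagonal_one
  have hdinv : d⁻¹ = d ^ 2 := (inv_eq_of_mul_eq_one_left (by rw [← pow_succ]; exact hd3) : _)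
  refine ⟨(QuotientGroup.mk d : PSU 4 F 2), ?_, ?_⟩
  · rw [← QuotientGroup.mk_pow, hd3, QuotientGroup.mk_one]
  · intro hc
    obtain ⟨t, ht⟩ := isConj_iff.1 hc
    obtain ⟨t, rfl⟩ := QuotientGroup.mk_surjective t
    rw [← QuotientGroup.mk_inv, ← QuotientGroup.mk_inv, ← QuotientGroup.mk_mul, ← QuotientGroup.mk_mul,
      QuotientGroup.eq] at ht
    obtain ⟨c, hc4, hc3, hz⟩ := (mem_center_SU_iff (by simpa using hF) (by norm_num) _).1 ht
    have hc1 : c = 1 := by
      have : c ^ 4 = c ^ 3 * c := by ring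
      rw [this] at hc4
      have h3 : c ^ 3 = 1 := hc3
      rw [h3, one_mul] at hc4
      exact hc4
    subst hc1
    have hone : (suScalar 2 (1 : F) hc4 hc3 : SU 4 F 2) = 1 := by
      apply Subtype.ext
      apply Subtype.ext
      change (Matrix.diagonal fun _ => (1 : F)) = (1 : Matrix (Fin 4) (Fin 4) F)
      exact Matrix.diagonal_one
    rw [hone] at hz
    have hz2 : t * d * t⁻¹ = d⁻¹ := inv_mul_eq_one.1 hz
    rw [hdinv] at hz2
    have htr : Matrix.trace (((t * d * t⁻¹ : SU 4 F 2) : Matrix.SpecialLinearGroup (Fin 4) F) :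
        Matrix (Fin 4) (Fin 4) F) = Matrix.trace (Matrix.diagonal a) := by
      have h1 : (((t * d * t⁻¹ : SU 4 F 2) : Matrix.SpecialLinearGroup (Fin 4) F) :
          Matrix (Fin 4) (Fin 4) F) = ((t : Matrix.SpecialLinearGroup (Fin 4) F) : Matrix (Fin 4) (Fin 4) F) *
            Matrix.diagonal a * ((t⁻¹ : SU 4 F 2) : Matrix.SpecialLinearGroup (Fin 4) F).1 := rfl
      rw [h1, Matrix.trace_mul_comm, ← Matrix.mul_assoc]
      have h2 : ((t⁻¹ : SU 4 F 2) : Matrix.SpecialLinearGroup (Fin 4) F).1 *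
          ((t : Matrix.SpecialLinearGroup (Fin 4) F) : Matrix (Fin 4) (Fin 4) F) = 1 := by
        have h3 : (((t⁻¹ * t : SU 4 F 2) : Matrix.SpecialLinearGroup (Fin 4) F) :
            Matrix (Fin 4) (Fin 4) F) = 1 := by
          rw [inv_mul_cancel]; rfl
        exact h3
      rw [h2, Matrix.one_mul]
    rw [hz2] at htr
    have h4 : (((d ^ 2 : SU 4 F 2) : Matrix.SpecialLinearGroup (Fin 4) F) : Matrix (Fin 4) (Fin 4) F)
        = Matrix.diagonal (a ^ 2) := by
      change ((Matrix.diagonal a) ^ 2 : Matrix (Fin 4) (Fin 4) F) = _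
      rw [Matrix.diagonal_pow]
    rw [h4, Matrix.trace_diagonal, Matrix.trace_diagonal] at htr
    simp only [ha, Fin.sum_univ_four, Pi.pow_apply, Matrix.cons_val_zero, Matrix.cons_val_one,
      Matrix.cons_val] at htr
    -- 3 w^2 + 1 = 3 w + 1
    have h5 : w ^ 2 = w := by linear_combination htr + (w - w ^ 2) * h2'
    have h6 : w * (w - 1) = 0 := by linear_combination h5
    rcases mul_eq_zero.1 h6 with h | h
    · exact hw0 h
    · exact hw1 (sub_eq_zero.1 h)

end unitary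

seal _root_.Finset.sum _root_.dotProduct in
/-- **`Suz` has a non-real element.** -/
theorem nrel_suz {G : Type*} [Group G] (h : Spor.IsoSuz G) : NRel G := by
  classical
  obtain ⟨A, hA, hn, X, iX, fX, hX, hs, hnc, z, hz, Q, hQn, hF, hQ, hc, ⟨e⟩, g, ⟨hq, hgQ⟩, hne⟩ :=
    Cfsg.Agent.S5389.result
  have hXS : Spor.IsoSuz X := Cfsg.Agent.S1719.result z hz Q hF hQ hc e ⟨g, ⟨hq, hgQ⟩, hne⟩
  obtain ⟨e1⟩ := h
  obtain ⟨e2⟩ := hXS
  refine NRel.congr (e2.trans e1.symm) ?_
  -- the field with four elements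
  haveI : Fact (Nat.Prime 2) := ⟨Nat.prime_two⟩
  haveI : Fintype (GaloisField 2 2) := Fintype.ofFinite _
  have hK : Fintype.card (GaloisField 2 2) = 2 ^ 2 := by
    rw [← Nat.card_eq_fintype_card]
    exact GaloisField.card 2 2 (by norm_num)
  obtain ⟨e3⟩ := Cfsg.Agent.S0303.result (F := ZMod 2) (K := GaloisField 2 2) (q := 2) (ZMod.card 2) hK 1 1
    Cfsg.Agent.LargeExtra.Cards.aniso
  let f0 : ↥(Subgroup.centralizer ({z} : Set X)) →* Omega (ZMod 2) (quadFormMinus 2 (ZMod 2) 1 1) :=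
    e.toMonoidHom.comp (QuotientGroup.mk' Q)
  have hf0 : Function.Surjective f0 := e.surjective.comp (QuotientGroup.mk'_surjective Q)
  let f1 : ↥(Subgroup.centralizer ({z} : Set X)) →* POmega (ZMod 2) (quadFormMinus 2 (ZMod 2) 1 1) :=
    (QuotientGroup.mk' _).comp f0
  have hf1 : Function.Surjective f1 := (QuotientGroup.mk'_surjective _).comp hf0
  let f : ↥(Subgroup.centralizer ({z} : Set X)) →* PSU 4 (GaloisField 2 2) 2 := e3.toMonoidHom.comp f1
  have hf : Function.Surjective f := e3.surjective.comp hf1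
  obtain ⟨g0, hg3, hg0⟩ := nreal_u4 (F := GaloisField 2 2) hK
  obtain ⟨x, hx⟩ := hf g0
  obtain ⟨y, hy1, hy2⟩ := exists_odd_lift f x (by
    rw [hx]
    exact Odd.of_dvd_nat (by decide : Odd 3) (orderOf_dvd_of_pow_eq_one hg3))
  have hzz : z * z = 1 := by rw [← pow_two, ← hz, pow_orderOf_eq_one]
  refine nrel_of_centralizer_odd hzz f y hy1 ?_ (by rw [hy2, hx]; exact hg0)
  intro hzc
  have h1 : f0 ⟨z, hzc⟩ ∈ Subgroup.center (Omega (ZMod 2) (quadFormMinus 2 (ZMod 2) 1 1)) := by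
    rw [Subgroup.mem_center_iff]
    intro u
    obtain ⟨v, rfl⟩ := hf0 u
    rw [← map_mul, ← map_mul]
    congr 1
    apply Subtype.ext
    exact Subgroup.mem_centralizer_singleton_iff.1 v.2
  have h2 : f1 ⟨z, hzc⟩ = 1 := (QuotientGroup.eq_one_iff _).2 h1
  show e3 (f1 ⟨z, hzc⟩) = 1
  rw [h2, map_one]

end Cfsg.Agent.H291.SR.Suz
end

-- part: H32/SR/Odd
section
/-!
# Non-real elements of odd prime order (helper32, for S4971)

If `P` is a subgroup of odd prime order and `|N(P) : C(P)|` is odd then the generators of `P` are not real.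
-/

set_option autoImplicit false

namespace Cfsg.Agent.H32.SR

open Subgroup Cfsg.Agent.H721.SR

theorem inv_conj {G : Type*} [Group G] {x g : G} (hg : g * x * g⁻¹ = x⁻¹) : g⁻¹ * x * g = x⁻¹ := by
  have h3 : x = (g * x * g⁻¹)⁻¹ := by rw [hg, inv_inv]
  calc g⁻¹ * x * g = g⁻¹ * (g * x * g⁻¹)⁻¹ * g := by rw [← h3]
    _ = x⁻¹ := by group

/-- `x` is not real if `|N(P) : C(P)|` is odd, `P = ⟨x⟩`, `x² ≠ 1`. -/
theorem not_real_of_odd {G : Type*} [Group G] {x : G} (hx : x * x ≠ 1)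
    (h : Odd ((centralizer (zpowers x : Set G)).relIndex (normalizer (zpowers x : Set G)))) :
    ¬ IsConj x x⁻¹ := by
  intro hc
  obtain ⟨g, hg⟩ := isConj_iff.1 hc
  have key : ∀ a : G, a * x * a⁻¹ = x⁻¹ → ∀ y ∈ zpowers x, a * y * a⁻¹ ∈ zpowers x := by
    rintro a ha y ⟨k, rfl⟩
    refine ⟨-k, ?_⟩
    show x ^ (-k) = a * x ^ k * a⁻¹
    rw [zpow_neg, ← inv_zpow, ← ha, conj_zpow]
  have hgN : g ∈ normalizer (zpowers x : Set G) := by
    rw [mem_normalizer_iff]
    intro y
    refine ⟨fun hy => key g hg y hy, fun hy => ?_⟩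
    have h1 := key g⁻¹ (by rw [inv_inv]; exact inv_conj hg) _ hy
    have h2 : g⁻¹ * (g * y * g⁻¹) * g⁻¹⁻¹ = y := by group
    rwa [h2] at h1
  set N := normalizer (zpowers x : Set G) with hN
  set C := centralizer (zpowers x : Set G) with hC
  have hCn : (C.subgroupOf N).Normal := by
    constructor
    intro n hn m
    rw [mem_subgroupOf] at hn ⊢
    rw [hC, mem_centralizer_iff] at hn ⊢
    intro z hz
    have hm := (mem_normalizer_iff.1 (inv_mem m.2) z).1 hz
    rw [inv_inv] at hm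
    have h1 := hn _ hm
    show z * ((m : G) * n * (m : G)⁻¹) = ((m : G) * n * (m : G)⁻¹) * z
    have h2 : (m : G) * ((m : G)⁻¹ * z * m * n) * (m : G)⁻¹ = (m : G) * (n * ((m : G)⁻¹ * z * m)) * (m : G)⁻¹ := by
      rw [h1]
    calc z * ((m : G) * n * (m : G)⁻¹) = (m : G) * ((m : G)⁻¹ * z * m * n) * (m : G)⁻¹ := by group
      _ = (m : G) * (n * ((m : G)⁻¹ * z * m)) * (m : G)⁻¹ := h2
      _ = _ := by group
  have hk : (⟨g, hgN⟩ : N) ^ (C.subgroupOf N).index ∈ C.subgroupOf N := pow_index_mem _ _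
  have hk1 : g ^ (C.relIndex N) ∈ C := hk
  have hxz : x ∈ (zpowers x : Set G) := mem_zpowers x
  have hk2 : Commute x (g ^ (C.relIndex N)) := mem_centralizer_iff.1 hk1 x hxz
  have hg2 : Commute x (g * g) := by
    have h1 : g * x = x⁻¹ * g := mul_inv_eq_iff_eq_mul.1 hg
    have h2 : g * x⁻¹ = x * g := by
      have h3 : g * x⁻¹ * g⁻¹ = x := by
        have h4 : g * x⁻¹ * g⁻¹ = (g * x * g⁻¹)⁻¹ := by group
        rw [h4, hg, inv_inv]
      exact mul_inv_eq_iff_eq_mul.1 h3
    show x * (g * g) = g * g * x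
    rw [mul_assoc g g x, h1, ← mul_assoc g, h2, mul_assoc]
  obtain ⟨m, hm⟩ := h
  have hgx : Commute x g := by
    have h1 : Commute x (g ^ (2 * m)) := by rw [pow_mul, pow_two]; exact hg2.pow_right m
    rw [hm, pow_succ] at hk2
    have h2 : Commute x ((g ^ (2 * m))⁻¹ * (g ^ (2 * m) * g)) := (h1.inv_right).mul_right hk2
    rwa [inv_mul_cancel_left] at h2
  apply hx
  have h1 : g * x * g⁻¹ = x := by rw [← hgx.eq]; group
  rw [h1] at hg
  nth_rewrite 2 [hg]
  exact mul_inv_cancel x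

/-- **Non-real elements**: a subgroup `P` of odd prime order with `|N(P)| = k |C(P)|`, `k` odd. -/
theorem nrel_of_card {G : Type*} [Group G] [Finite G] {p k : ℕ} (hp : p.Prime) (hp2 : p ≠ 2) {P : Subgroup G}
    (hP : Nat.card P = p) (hk : Odd k)
    (hN : Nat.card (normalizer (P : Set G)) = k * Nat.card (centralizer (P : Set G))) : NRel G := by
  have := Fact.mk hp
  have hcyc : IsCyclic P := isCyclic_of_prime_card hP
  obtain ⟨x, hx⟩ := hcyc.exists_generator
  have hPx : P = zpowers (x : G) := by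
    apply le_antisymm
    · intro y hy
      obtain ⟨i, hi⟩ := hx ⟨y, hy⟩
      exact ⟨i, by simpa using congrArg Subtype.val hi⟩
    · rw [zpowers_le]; exact x.2
  refine ⟨x, not_real_of_odd ?_ ?_⟩
  · intro h
    have h1 : orderOf (x : G) = p := by rw [← Nat.card_zpowers, ← hPx, hP]
    have h2 : orderOf (x : G) ∣ 2 := orderOf_dvd_of_pow_eq_one (by rw [pow_two]; exact h)
    rw [h1] at h2
    exact hp2 ((Nat.prime_dvd_prime_iff_eq hp Nat.prime_two).1 h2)
  · rw [← hPx]
    have hle : centralizer (P : Set G) ≤ normalizer (P : Set G) := by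
      intro g hg
      rw [mem_centralizer_iff] at hg
      have h0 : ∀ h ∈ P, g * h * g⁻¹ = h := fun h hh => by rw [← hg h hh]; group
      rw [mem_normalizer_iff]
      intro h
      refine ⟨fun hh => by rw [h0 h hh]; exact hh, fun hh => ?_⟩
      have h1 : g * (g * h * g⁻¹) * g⁻¹ = g * h * g⁻¹ := h0 _ hh
      have h2 : g * h * g⁻¹ = h := by
        have h3 := mul_right_cancel h1
        exact mul_left_cancel h3
      rwa [h2] at hh
    have h1 := card_mul_index ((centralizer (P : Set G)).subgroupOf (normalizer (P : Set G)))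
    rw [Nat.card_congr (subgroupOfEquivOfLe hle).toEquiv, hN] at h1
    have h2 : 0 < Nat.card (centralizer (P : Set G)) := Nat.card_pos
    have h3 : (centralizer (P : Set G)).relIndex (normalizer (P : Set G)) = k := by
      apply Nat.eq_of_mul_eq_mul_left h2
      rw [mul_comm _ k]
      exact h1
    rw [h3]
    exact hk

end Cfsg.Agent.H32.SR
end

-- part: H32/SR/J4
section
/-!
# `J₄` has non-real elements of order 7 (helper32, for S4971)
-/

set_option autoImplicit false

namespace Cfsg.Agent.H32.SR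

open Subgroup Cfsg Cfsg.Agent.H721.SR Cfsg.Agent.H858

theorem nrel_J4 : NRel Spor.J4 := by
  have : Finite Spor.J4 := VK.finite_J4
  refine nrel_of_card (p := 7) (k := 3) (by norm_num) (by norm_num) Norm57.card_S7 (by decide) ?_
  rw [Norm57.card_normalizer_S7, Loc7.card_C]

theorem nrel_j4 {K : Type*} [Group K] (h : Cfsg.Spor.IsoJ4 K) : NRel K := by
  obtain ⟨e⟩ := h
  exact nrel_J4.congr e.symm

end Cfsg.Agent.H32.SR
end

-- part: H686/SR/SzRee
section
/-!
# TEAM SR: the Suzuki and Ree groups have non-real elements (S4971, S4970)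
-/

set_option autoImplicit false

namespace Cfsg.Agent.H686.SR.SzRee

open Cfsg Cfsg.Agent.H721.SR Cfsg.Agent.ThreePrime.SzRel Cfsg.Agent.LieRecognition

section sz

variable {J : Type*} [Group J] {F : Type*} [Field F] (R : Cfsg.Agent.ThreePrime.SzRel.Rel J F)

theorem x_inv : (R.u 1 0)⁻¹ = R.u 1 1 := by
  rw [R.u_inv, map_one, mul_one, zero_add]

/-- the element `u 1 0` of order four is not real -/
theorem not_real_sz : ¬ IsConj (R.u 1 0) (R.u 1 0)⁻¹ := by
  intro h
  rw [x_inv] at h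
  obtain ⟨g, hg⟩ := isConj_iff.1 h
  have hx1 : R.u 1 0 ≠ 1 := by
    intro h1
    rw [← R.u_zero] at h1
    exact one_ne_zero (R.u_inj h1).1
  obtain ⟨a, b, k, rfl⟩ := R.exists_ud (R.u_mem 1 0) hx1 (by rw [hg]; exact R.u_mem _ _)
  have h1 : (R.u a b * R.d k) * R.u 1 0 * (R.u a b * R.d k)⁻¹ =
      R.u a b * (R.d k * R.u 1 0 * (R.d k)⁻¹) * (R.u a b)⁻¹ := by group
  rw [h1, R.conj_d, R.conj_u] at hg
  obtain ⟨h2, h3⟩ := R.u_inj hg
  rw [h2, map_one, zero_mul, one_mul, zero_add, mul_one] at h3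
  have h4 := congrArg R.θ h3
  rw [map_add, R.sq, map_one] at h4
  have h5 : a ^ 2 - a = 0 := by linear_combination h4 - h3
  have h6 : a * (a - 1) = 0 := by linear_combination h5
  have h7 := R.two
  rcases mul_eq_zero.1 h6 with h8 | h8
  · rw [h8, map_zero, zero_add] at h3
    exact one_ne_zero h3.symm
  · rw [sub_eq_zero] at h8
    rw [h8, map_one] at h3
    have h9 : (1 : F) = 0 := by linear_combination h7 - h3
    exact one_ne_zero h9

end sz

/-- **The Suzuki groups.** -/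
theorem nrel_sz {S : Type*} [Group S] (h : Cfsg.Lie.IsoSuzuki S) : NRel S := by
  obtain ⟨F, i1, i2, m, hm, hF, ⟨e⟩⟩ := h
  refine NRel.congr e.symm ?_
  exact ⟨_, not_real_sz (ofGood (Cfsg.Agent.LieRecognition.SzMatrix.good hF))⟩

theorem rr_sz {S : Type*} [Group S] (h : Cfsg.Lie.IsoSuzuki S) : RR S := RR.of_nrel (nrel_sz h)

section ree

variable {K : Type*} [Field K] [Fintype K] {G : Type*} [Group G] {m : ℕ} {U : K → K → K → G} {h : Kˣ → G} {n : G}

omit [Fintype K] in
theorem U_zero (D : ReeAbs.Data m U h n) : U 0 0 0 = 1 := by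
  have h1 := D.U_mul 0 0 0 0 0 0
  have h3 : (0 : K) ^ (3 ^ (m + 1)) = 0 := zero_pow (by positivity)
  simp only [h3, add_zero, mul_zero, sub_zero] at h1
  exact mul_eq_left.1 h1

omit [Fintype K] in
theorem U_inv (D : ReeAbs.Data m U h n) : (U 0 1 0)⁻¹ = U 0 (-1) 0 := by
  rw [inv_eq_iff_mul_eq_one, D.U_mul, ← U_zero D]
  have h3 : (0 : K) ^ (3 ^ (m + 1)) = 0 := zero_pow (by positivity)
  congr 1 <;> simp [h3]

/-- `-1` is not a square -/
theorem not_isSquare_neg_one (hK : Fintype.card K = 3 ^ (2 * m + 1)) : ¬ IsSquare (-1 : K) := by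
  rw [FiniteField.isSquare_neg_one_iff, hK]
  intro h1
  apply h1
  have h2 : 3 ^ (2 * m + 1) % 4 = 3 := by
    rw [pow_succ, pow_mul, Nat.mul_mod, Nat.pow_mod]
    norm_num
  exact h2

/-- the element `U 0 1 0` is not real -/
theorem not_real_ree (hK : Fintype.card K = 3 ^ (2 * m + 1)) (D : ReeAbs.Data m U h n) :
    ¬ IsConj (U 0 1 0) (U 0 1 0)⁻¹ := by
  intro hc
  obtain ⟨g, hg⟩ := isConj_iff.1 hc
  have h3 : (0 : K) ^ (3 ^ (m + 1)) = 0 := zero_pow (by positivity)
  have hg' : g * U 0 1 0 = U 0 (-1) 0 * g := by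
    rw [← U_inv D, ← hg]
    group
  rcases D.bruhat g with ⟨t, u, v, a, rfl⟩ | ⟨t, u, v, a, t', u', v', rfl⟩
  · rw [mul_assoc, D.h_U, ← mul_assoc, D.U_mul, ← mul_assoc (U 0 (-1) 0), D.U_mul] at hg'
    obtain ⟨-, h2, -, -⟩ := D.inj₁ _ _ _ _ _ _ _ _ hg'
    simp only [mul_zero, mul_one, h3, sub_zero, zero_mul] at h2
    have h4 : (a : K) ^ (3 ^ (m + 1) + 3) = -1 := by
      have := h2
      linear_combination this
    apply not_isSquare_neg_one hK
    have h5 : Even (3 ^ (m + 1) + 3) := by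
      have : Odd (3 ^ (m + 1)) := Odd.pow (by decide)
      exact this.add_odd (by decide)
    rw [← h4]
    exact h5.isSquare_pow _
  · rw [mul_assoc (U t u v * h a * n), D.U_mul] at hg'
    have h5 : U 0 (-1) 0 * (U t u v * h a * n * U t' u' v') =
        (U 0 (-1) 0 * U t u v) * h a * n * U t' u' v' := by group
    rw [h5, D.U_mul] at hg'
    obtain ⟨-, -, -, -, -, h2, -⟩ := D.inj₂ _ _ _ _ _ _ _ _ _ _ _ _ _ _ hg'
    simp only [h3, mul_zero, sub_zero] at h2
    have h6 : (1 : K) = 0 := by linear_combination h2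
    exact one_ne_zero h6

end ree

/-- **The Ree groups.** -/
theorem nrel_ree {S : Type*} [Group S] (h : Cfsg.Lie.IsoRee S) : NRel S := by
  obtain ⟨K, _, _, m, hm, hK, ⟨e⟩⟩ := h
  refine NRel.congr e.symm ?_
  obtain ⟨U, h, n, D⟩ := ChevalleyStructure.Ree.Data.exists_data (K := K) hK
  exact ⟨_, not_real_ree hK D⟩

theorem rr_ree {S : Type*} [Group S] (h : Cfsg.Lie.IsoRee S) : RR S := RR.of_nrel (nrel_ree h)

end Cfsg.Agent.H686.SR.SzRee
end

-- part: H973/SR/Alt
section
/-!
# S4971: non-real elements of `A_11` and `A_9`, lifting through a centralizer of an involution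
-/

set_option autoImplicit false
set_option maxRecDepth 100000

namespace Cfsg.Agent.H973.SR

open Cfsg.Agent.H721.SR Equiv Equiv.Perm

/-- **The centraliser trick, lifting an odd non-real element along a surjection with 2-kernel.** -/
theorem nrel_of_surj {G K : Type*} [Group G] [Group K] {z : G} (hz : z * z = 1)
    (f : ↥(Subgroup.centralizer {z} : Subgroup G) →* K) (hf : Function.Surjective f) (k : ℕ)
    (hk : ∀ x, f x = 1 → x ^ 2 ^ k = 1) {c : K} (hc : Odd (orderOf c)) (hn : ¬ IsConj c c⁻¹) :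
    NRel G := by
  obtain ⟨g, hg⟩ := hf c
  have hcop : (2 ^ k).Coprime (orderOf c) := (Nat.coprime_two_left.2 hc).pow_left k
  obtain ⟨j, hj⟩ := exists_pow_eq_self_of_coprime hcop
  set! y := (g ^ 2 ^ k) ^ j with hy
  have hfy : f y = c := by rw [hy, map_pow, map_pow, hg, hj]
  have hym : y ^ orderOf c = 1 := by
    have h1 : f (g ^ orderOf c) = 1 := by rw [map_pow, hg, pow_orderOf_eq_one]
    have h2 := hk _ h1
    rw [hy, ← pow_mul, ← pow_mul]
    rw [← pow_mul] at h2
    have h3 : 2 ^ k * (j * orderOf c) = orderOf c * 2 ^ k * j := by ring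
    rw [h3, pow_mul, h2, one_pow]
  have hzc : z ∈ (Subgroup.centralizer {z} : Subgroup G) := Subgroup.mem_centralizer_singleton_iff.2 rfl
  have hcomm : Commute z (y : G) := (Subgroup.mem_centralizer_singleton_iff.1 y.2).symm
  refine ⟨z * (y : G), fun hcon => hn ?_⟩
  have hzx : z ∈ Subgroup.zpowers (z * (y : G)) := by
    obtain ⟨l, hl⟩ := hc
    refine Subgroup.mem_zpowers_iff.2 ⟨(orderOf c : ℕ), ?_⟩
    have h2 : (y : G) ^ orderOf c = 1 := by
      rw [← Subgroup.coe_pow, hym, Subgroup.coe_one]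
    rw [zpow_natCast, hcomm.mul_pow, h2, mul_one, hl, pow_succ, pow_mul, pow_two, hz, one_pow,
      one_mul]
  obtain ⟨t, ht, h⟩ := isConj_centralizer hz hzx hcon
  have htz : t * z = z * t := Subgroup.mem_centralizer_singleton_iff.1 ht
  have h1 : t * (y : G) * t⁻¹ = (y : G)⁻¹ := by
    have hzi : z⁻¹ = z := inv_eq_of_mul_eq_one_left hz
    rw [mul_inv_rev, hzi] at h
    have h2 : t * (z * (y : G)) * t⁻¹ = z * (t * (y : G) * t⁻¹) := by
      rw [← mul_assoc, htz]
      group
    rw [h2] at h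
    have h3 : (y : G)⁻¹ * z = z * (y : G)⁻¹ := (hcomm.inv_right.eq).symm
    rw [h3] at h
    exact mul_left_cancel h
  refine isConj_iff.2 ⟨f ⟨t, ht⟩, ?_⟩
  rw [← hfy, ← map_mul, ← map_inv, ← map_mul, ← map_inv]
  congr 1
  exact Subtype.ext h1

/-- An even permutation whose centralizer consists of even permutations and which is inverted by an
odd permutation is not real in the alternating group. -/
theorem not_real_alt {α : Type*} [Fintype α] [DecidableEq α] {c : alternatingGroup α}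
    (hc : Subgroup.centralizer {(c : Perm α)} ≤ alternatingGroup α) {r : Perm α}
    (hr : r * c * r⁻¹ = (c : Perm α)⁻¹) (hs : sign r = -1) : ¬ IsConj c c⁻¹ := by
  intro h
  obtain ⟨t, ht⟩ := isConj_iff.1 h
  have ht' : (t : Perm α) * c * (t : Perm α)⁻¹ = (c : Perm α)⁻¹ := by
    have := congrArg Subtype.val ht
    simpa only [_root_.Subgroup.coe_mul, _root_.InvMemClass.coe_inv] using this
  have h1 : r⁻¹ * t ∈ Subgroup.centralizer {(c : Perm α)} := by
    rw [Subgroup.mem_centralizer_singleton_iff]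
    have h2 : r⁻¹ * (t * c * (t : Perm α)⁻¹) * r = r⁻¹ * (r * c * r⁻¹) * r := by rw [ht', hr]
    have h3 : r⁻¹ * t * c = r⁻¹ * (t * c * (t : Perm α)⁻¹) * r * (r⁻¹ * t) := by group
    rw [h3, h2]
    group
  have h4 := hc h1
  rw [mem_alternatingGroup, Perm.sign_mul, Perm.sign_inv, hs, (mem_alternatingGroup).1 t.2] at h4
  exact absurd h4 (by decide)

/-- the 11-cycle -/
def c11 : Perm (Fin 11) := finRotate 11

theorem c11_mem : c11 ∈ alternatingGroup (Fin 11) := by
  rw [mem_alternatingGroup, c11, sign_finRotate]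
  decide

theorem not_real_c11 : ¬ IsConj (⟨c11, c11_mem⟩ : alternatingGroup (Fin 11)) ⟨c11, c11_mem⟩⁻¹ := by
  refine not_real_alt (r := Equiv.subLeft (0 : Fin 11)) ?_ (by decide) (by decide)
  rw [Equiv.Perm.centralizer_le_alternating_iff]
  have h : c11.cycleType = {11} := cycleType_finRotate
  show (∀ c ∈ c11.cycleType, Odd c) ∧ _ ≤ c11.cycleType.sum + 1 ∧ ∀ i, c11.cycleType.count i ≤ 1
  rw [h]
  refine ⟨by decide, by decide, fun i => ?_⟩
  rw [Multiset.count_singleton]
  split_ifs <;> norm_num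

theorem order_c11 : orderOf (⟨c11, c11_mem⟩ : alternatingGroup (Fin 11)) = 11 := by
  rw [Subgroup.orderOf_mk, ← lcm_cycleType]
  have h : c11.cycleType = {11} := cycleType_finRotate
  rw [h]
  rfl

/-- the element of cycle type 5, 3, 1 -/
def c9 : Perm (Fin 9) := c[0, 1, 2, 3, 4] * c[5, 6, 7]

theorem c9_mem : c9 ∈ alternatingGroup (Fin 9) := by
  rw [mem_alternatingGroup]
  decide

theorem cycleType_c9 : c9.cycleType = {5, 3} := by
  decide +kernel

/-- the inverter -/
def r9 : Perm (Fin 9) := swap 1 4 * swap 2 3 * swap 6 7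

theorem not_real_c9 : ¬ IsConj (⟨c9, c9_mem⟩ : alternatingGroup (Fin 9)) ⟨c9, c9_mem⟩⁻¹ := by
  refine not_real_alt (r := r9) ?_ (by decide +kernel) (by decide)
  rw [Equiv.Perm.centralizer_le_alternating_iff]
  show (∀ c ∈ c9.cycleType, Odd c) ∧ _ ≤ c9.cycleType.sum + 1 ∧ ∀ i, c9.cycleType.count i ≤ 1
  rw [cycleType_c9]
  refine ⟨by decide, by decide, fun i => ?_⟩
  have hnd : ({5, 3} : Multiset ℕ).Nodup := by decide
  exact Multiset.nodup_iff_count_le_one.1 hnd i

theorem order_c9 : orderOf (⟨c9, c9_mem⟩ : alternatingGroup (Fin 9)) = 15 := by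
  rw [Subgroup.orderOf_mk, ← lcm_cycleType, cycleType_c9]
  rfl

end Cfsg.Agent.H973.SR
end

-- part: H973/SR/LyTh
section
/-!
# S4971: `Ly` and `Th` have non-real elements
-/

set_option autoImplicit false

namespace Cfsg.Agent.H973.SR

open Cfsg Cfsg.Agent.H721.SR Equiv

theorem nrel_ly_model : NRel Cfsg.Spor.Ly := by
  obtain ⟨L⟩ := Cfsg.Agent.TypeM.FactsLy.exists_mt_ly
  have hmem : ∀ x, L.K.π x ∈ alternatingGroup (Fin 11) := by
    intro x
    rw [← L.K.range_eq]
    exact ⟨x, rfl⟩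
  refine nrel_of_surj (z := L.t) L.t_mul_t (L.K.π.codRestrict (alternatingGroup (Fin 11)) hmem) ?_ 1 ?_
    (c := ⟨c11, c11_mem⟩) ?_ not_real_c11
  · rintro ⟨s, hs⟩
    rw [← L.K.range_eq] at hs
    obtain ⟨x, rfl⟩ := hs
    exact ⟨x, rfl⟩
  · intro x hx
    have h1 : L.K.π x = 1 := congrArg Subtype.val hx
    rcases (L.K.ker x).1 h1 with h | h
    · rw [h, one_pow]
    · rw [h, pow_one, pow_two, L.K.z_mul_z]
  · rw [order_c11]
    decide

/-- **`Ly` has a non-real element.** -/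
theorem nrel_ly {S : Type*} [Group S] (h : Cfsg.Spor.IsoLy S) : NRel S := by
  obtain ⟨e⟩ := h
  exact nrel_ly_model.congr e.symm

theorem nrel_th_model : NRel Cfsg.Spor.Th := by
  obtain ⟨Q, hQn, hQ9, -, -, ⟨e⟩⟩ := Cfsg.Agent.MonsterX.ThOneClass.struct
  have ho := Cfsg.Agent.MonsterX.ThOneClass.orderOf_a
  refine nrel_of_surj ?_
    (e.toMonoidHom.comp (QuotientGroup.mk' Q)) ?_ 9 ?_ (c := ⟨c9, c9_mem⟩) ?_ not_real_c9
  · rw [← pow_two, ← ho, pow_orderOf_eq_one]
  · exact e.surjective.comp (QuotientGroup.mk'_surjective Q)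
  · intro x hx
    have h1 : (QuotientGroup.mk' Q x) = 1 := e.injective (by rw [map_one]; exact hx)
    have h2 : x ∈ Q := (QuotientGroup.eq_one_iff x).1 h1
    have h3 : (⟨x, h2⟩ : Q) ^ Nat.card Q = 1 := pow_card_eq_one'
    rw [hQ9] at h3
    exact congrArg Subtype.val h3
  · rw [order_c9]
    decide

/-- **`Th` has a non-real element.** -/
theorem nrel_th {S : Type*} [Group S] (h : Cfsg.Spor.IsoTh S) : NRel S := by
  obtain ⟨e⟩ := h
  exact nrel_th_model.congr e.symm

end Cfsg.Agent.H973.SR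
end

-- part: H560/SRHN
section
/-!
# TEAM SR: `HN` has non-real elements (order 19) (task 3869, helper560)

`nrel_of_sylow` : `x` of prime order `r`, `r² ∤ |G|`, `C(x) = ⟨x⟩`, `|G| / r` odd modulo `r`: `x` is not real.
-/

set_option autoImplicit false

namespace Cfsg.Agent.H560.SRSyl

open Subgroup Cfsg.Agent.H721.SR

/-- `C(x) = ⟨x⟩` of prime order `r`, `r² ∤ |G|` and `|G| / r` odd modulo `r`: then `x` is not real. -/
theorem nrel_of_sylow {G : Type*} [Group G] [Finite G] {r N e : ℕ} (hr : r.Prime) (hr2 : r ≠ 2)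
    (hG : Nat.card G = r * N) (hN : N % r = e) (he : ¬ 2 ∣ e) (he0 : ¬ r ∣ N) {x : G} (hx : orderOf x = r)
    (hc : Nat.card (centralizer ({x} : Set G)) = r) : NRel G := by
  have hF : Fact r.Prime := ⟨hr⟩
  have h2 : ¬ r ^ 2 ∣ Nat.card G := by
    rw [hG, pow_two]
    intro h
    exact he0 (Nat.dvd_of_mul_dvd_mul_left hr.pos h)
  obtain ⟨n, hn, hcard⟩ := CpAutON.Gen.card_eq h2 hx
  set φ := (zpowers x).normalizerMonoidHom with hφ
  have hdvd : Nat.card ↥φ.range ∣ r - 1 := by
    rw [← CpAutON.Gen.card_mulAut hx]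
    exact card_subgroup_dvd_card _
  have hle : Nat.card ↥φ.range < r := by
    have := Nat.le_of_dvd (by have := hr.two_le; omega) hdvd
    have := hr.two_le
    omega
  rw [hG, hc] at hcard
  have h3 : N = n * Nat.card ↥φ.range := by
    have h4 : r * N = r * (n * Nat.card ↥φ.range) := by rw [hcard]; ring
    exact Nat.eq_of_mul_eq_mul_left hr.pos h4
  have h5 : Nat.card ↥φ.range = e := by
    rw [← hN, h3, Nat.mul_mod, hn, one_mul, Nat.mod_mod, Nat.mod_eq_of_lt hle]
  refine ⟨x, fun hreal => he ?_⟩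
  obtain ⟨h, hh⟩ := isConj_iff.1 hreal
  have hmem : h ∈ normalizer ((zpowers x : Subgroup G) : Set G) := by
    rw [mem_normalizer_iff]
    intro y
    have hconj : ∀ g : G, g * x * g⁻¹ = x⁻¹ → ∀ y ∈ zpowers x, g * y * g⁻¹ ∈ zpowers x := by
      rintro g hg y ⟨k, rfl⟩
      refine ⟨-k, ?_⟩
      show x ^ (-k) = g * x ^ k * g⁻¹
      rw [← conj_zpow, hg, inv_zpow, zpow_neg]
    have hinv : h⁻¹ * x * h⁻¹⁻¹ = x⁻¹ := by
      rw [inv_inv, ← inv_inj, mul_inv_rev, mul_inv_rev, inv_inv, inv_inv, ← hh]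
      group
    constructor
    · exact hconj h hh y
    · intro hy
      have := hconj h⁻¹ hinv _ hy
      have h6 : h⁻¹ * (h * y * h⁻¹) * h⁻¹⁻¹ = y := by group
      rwa [h6] at this
  set! f := φ ⟨h, hmem⟩ with hf
  have hfx : ∀ y : zpowers x, ((f y : zpowers x) : G) = h * y * h⁻¹ := fun y => rfl
  have hfinv : ∀ y : zpowers x, f y = y⁻¹ := by
    rintro ⟨y, k, rfl⟩
    apply Subtype.ext
    rw [hfx]
    show h * x ^ k * h⁻¹ = (x ^ k)⁻¹
    rw [← conj_zpow, hh, inv_zpow]
  have hf2 : f ^ 2 = 1 := by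
    apply MulEquiv.ext
    intro y
    rw [pow_two, MulAut.mul_apply, hfinv, hfinv, inv_inv, MulAut.one_apply]
  have hf1 : f ≠ 1 := by
    intro hf1
    have h7 := hfinv ⟨x, mem_zpowers x⟩
    rw [hf1, MulAut.one_apply] at h7
    have h8 : x = x⁻¹ := congrArg Subtype.val h7
    have h9 : x ^ 2 = 1 := by
      rw [pow_two]
      nth_rewrite 1 [h8]
      exact inv_mul_cancel x
    have h10 := orderOf_dvd_of_pow_eq_one h9
    rw [hx] at h10
    exact hr2 ((Nat.prime_dvd_prime_iff_eq hr Nat.prime_two).1 h10)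
  have hord : orderOf f = 2 := orderOf_eq_prime hf2 hf1
  rw [← h5, ← hord]
  have h11 : f ∈ φ.range := ⟨_, hf.symm⟩
  have h12 := _root_.orderOf_dvd_natCard (⟨f, h11⟩ : φ.range)
  rwa [Subgroup.orderOf_mk] at h12

end Cfsg.Agent.H560.SRSyl

namespace Cfsg.Agent.H560.SRHN

open Subgroup Cfsg.Agent.H721.SR

theorem nrel_model : NRel Cfsg.Spor.HN := by
  have hfin := Cfsg.Agent.H845.HNNineteen.finite_HN
  obtain ⟨x, hx, hc⟩ := Cfsg.Agent.H845.HNNineteen.hn_nineteen
  refine SRSyl.nrel_of_sylow (r := 19) (N := 14370048000000) (e := 14370048000000 % 19) (by norm_num) (by norm_num)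
    ?_ rfl (by norm_num) (by norm_num) hx hc
  have := Cfsg.Agent.S1701.result.2
  rw [this]

/-- **`HN` has an element which is not conjugate to its inverse.** -/
theorem nrel_hn {S : Type*} [Group S] (h : Cfsg.Spor.IsoHN S) : NRel S := by
  obtain ⟨e⟩ := h
  exact nrel_model.congr e.symm

end Cfsg.Agent.H560.SRHN
end

-- part: H560/SRON
section
/-!
# TEAM SR: the O'Nan group has non-real elements (order 31) (task 3869, helper560)
-/

set_option autoImplicit false

namespace Cfsg.Agent.H560.SRON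

open Subgroup Cfsg.Agent.H721.SR

theorem nrel_model : NRel Cfsg.Spor.ON := by
  have hfin := Cfsg.Agent.KFacts.ON.Cent.finite_ON
  have h31 : Fact (Nat.Prime 31) := ⟨by norm_num⟩
  obtain ⟨x, hx⟩ := exists_prime_orderOf_dvd_card' (G := Cfsg.Spor.ON) 31 (by
    rw [Cfsg.Agent.H474.ONC.card_ON]; norm_num)
  refine SRSyl.nrel_of_sylow (r := 31) (N := 14865016320) (e := 14865016320 % 31) (by norm_num) (by norm_num)
    ?_ rfl (by norm_num) (by norm_num) hx (Cfsg.Agent.H680.ONThirtyOne.card_cent hx)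
  rw [Cfsg.Agent.H474.ONC.card_ON]

/-- **`O'N` has an element which is not conjugate to its inverse.** -/
theorem nrel_on {S : Type*} [Group S] (h : Cfsg.Spor.IsoON S) : NRel S := by
  obtain ⟨e⟩ := h
  exact nrel_model.congr e.symm

end Cfsg.Agent.H560.SRON
end

private theorem dce_d249919b6d43 : _root_.True := by
  try have : _root_.True := by simp only [_root_.Cfsg.Agent.H973.SR.c11.eq_1]
  exact _root_.True.intro
end

-- part: H306/SR/Hs_mg
section
prune_inst 0x10100500400000000000001200002000000000000000000000000102000840200000a0001a000400000008000008000000000000420000000a000400000500000080000021000000000006800000000000000000000000000000000000000000000000000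
set_option linter.all false
open scoped Cfsg.Agent.FastGrp

-- part: H306/SR/Cent
section
/-!
# TEAM SR: a non-real element of prime order from the order of its centralizer (helper306)

`r ∥ |G|`, `|G| = r n`, `|C(x)| = r c`, `c e = n` modulo `r`, `e < r` odd: then `x` is not real. In particular
(`c = 1`) if `|C(x)| = r` and `n % r` is odd.
-/

set_option autoImplicit false

namespace Cfsg.Agent.H306.SR

open Subgroup Cfsg.Agent.H721.SR

/-- a real element of odd order `> 1` has an automizer of even order -/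
theorem two_dvd_of_real {G : Type*} [Group G] [Finite G] {x : G} (hx : ¬ x * x = 1) (h : IsConj x x⁻¹) :
    2 * Nat.card (centralizer ({x} : Set G)) ∣ Nat.card (normalizer ((zpowers x : Subgroup G) : Set G)) := by
  obtain ⟨t, ht⟩ := isConj_iff.1 h
  set P : Subgroup G := zpowers x with hP
  have hCP : centralizer ({x} : Set G) = centralizer (P : Set G) := by
    rw [hP, zpowers_eq_closure, centralizer_closure]
  let φ : normalizer (P : Set G) →* MulAut P := P.normalizerMonoidHom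
  have hker : Nat.card φ.ker = Nat.card (centralizer ({x} : Set G)) := by
    rw [show φ.ker = _ from P.normalizerMonoidHom_ker, hCP]
    exact Nat.card_congr (Subgroup.subgroupOfEquivOfLe (centralizer_le_normalizer _)).toEquiv
  have hcard : Nat.card (normalizer (P : Set G)) = Nat.card (centralizer ({x} : Set G)) * Nat.card φ.range := by
    rw [← hker, ← Subgroup.card_mul_index φ.ker, Subgroup.index_ker]
  have htN : t ∈ normalizer (P : Set G) := by
    have key : ∀ s : G, s * x * s⁻¹ = x⁻¹ → ∀ y ∈ P, s * y * s⁻¹ ∈ P := by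
      intro s hs y hy
      obtain ⟨j, rfl⟩ := mem_zpowers_iff.1 hy
      rw [← conj_zpow, hs]
      exact zpow_mem (inv_mem (mem_zpowers x)) j
    have ht' : t⁻¹ * x * t⁻¹⁻¹ = x⁻¹ := by
      have h1 : x = t⁻¹ * x⁻¹ * t := by rw [← ht]; group
      rw [inv_inv]
      have h2 : (t⁻¹ * x * t)⁻¹ = x := by
        calc (t⁻¹ * x * t)⁻¹ = t⁻¹ * x⁻¹ * t := by group
          _ = x := h1.symm
      rw [← h2, inv_inv]
      congr 2
    rw [mem_normalizer_iff]
    intro y
    refine ⟨key t ht y, fun hy => ?_⟩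
    have h1 := key t⁻¹ ht' _ hy
    have h2 : t⁻¹ * (t * y * t⁻¹) * t⁻¹⁻¹ = y := by group
    rwa [h2] at h1
  have h2 : 2 ∣ Nat.card φ.range := by
    have hne : φ ⟨t, htN⟩ ≠ 1 := by
      intro h1
      have h3 : φ ⟨t, htN⟩ ⟨x, mem_zpowers x⟩ = ⟨x, mem_zpowers x⟩ := by rw [h1]; rfl
      have h4 : t * x * t⁻¹ = x := congrArg Subtype.val h3
      rw [ht] at h4
      apply hx
      rw [inv_eq_iff_mul_eq_one] at h4
      exact h4
    have hsq : φ ⟨t, htN⟩ * φ ⟨t, htN⟩ = 1 := by
      apply MulEquiv.ext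
      rintro ⟨y, hy⟩
      obtain ⟨j, rfl⟩ := mem_zpowers_iff.1 hy
      apply Subtype.ext
      show t * (t * x ^ j * t⁻¹) * t⁻¹ = x ^ j
      rw [← conj_zpow, ht, inv_zpow, ← zpow_neg, ← conj_zpow, ht, inv_zpow, zpow_neg, inv_inv]
    have ho : orderOf (φ ⟨t, htN⟩) = 2 := orderOf_eq_prime (by rw [pow_two]; exact hsq) hne
    rw [← ho]
    exact Subgroup.orderOf_dvd_natCard _ ⟨_, rfl⟩
  rw [hcard, mul_comm 2]
  exact Nat.mul_dvd_mul_left _ h2

variable {G : Type*} [Group G] [Finite G]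

/-- **A non-real element from the order of the centralizer.** -/
theorem not_real_of_cent {r n c e : ℕ} (hr : r.Prime) (hr2 : r ≠ 2) (hn : Nat.card G = r * n) (hrn : n % r ≠ 0)
    {x : G} (hx : orderOf x = r) (hc : Nat.card (centralizer ({x} : Set G)) = r * c) (he : e < r)
    (hmod : (c * e) % r = n % r) (hodd : e % 2 = 1) : ¬ IsConj x x⁻¹ := by
  intro hreal
  have hxx : ¬ x * x = 1 := by
    intro h
    have h1 : orderOf x ∣ 2 := orderOf_dvd_of_pow_eq_one (by rw [pow_two, h])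
    rw [hx] at h1
    exact hr2 ((Nat.prime_dvd_prime_iff_eq hr Nat.prime_two).1 h1)
  have h1 := two_dvd_of_real hxx hreal
  have h2 := (Cfsg.Agent.H217.Odm.norm_of_cent hr hn hrn hx hc he hmod).1
  rw [h2, hc] at h1
  have h3 : r * c * 2 ∣ r * c * e := by
    have e1 : 2 * (r * c) = r * c * 2 := by ring
    have e2 : r * (c * e) = r * c * e := by ring
    rwa [e1, e2] at h1
  have hc0 : 0 < r * c := by rw [← hc]; exact Nat.card_pos
  have h4 := Nat.dvd_of_mul_dvd_mul_left hc0 h3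
  omega

theorem nrel_of_cent {r n c e : ℕ} (hr : r.Prime) (hr2 : r ≠ 2) (hn : Nat.card G = r * n) (hrn : n % r ≠ 0)
    (hc : ∀ x : G, orderOf x = r → Nat.card (centralizer ({x} : Set G)) = r * c) (he : e < r)
    (hmod : (c * e) % r = n % r) (hodd : e % 2 = 1) : NRel G := by
  have hr' : Fact r.Prime := ⟨hr⟩
  obtain ⟨x, hx⟩ := exists_prime_orderOf_dvd_card' (G := G) r (by rw [hn]; exact dvd_mul_right _ _)
  exact ⟨x, not_real_of_cent hr hr2 hn hrn hx (hc x hx) he hmod hodd⟩

/-- the self-centralizing case -/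
theorem nrel_of_self_cent {r n : ℕ} (hr : r.Prime) (hr2 : r ≠ 2) (hn : Nat.card G = r * n) (hrn : n % r % 2 = 1)
    (hc : ∀ x : G, orderOf x = r → Nat.card (centralizer ({x} : Set G)) = r) : NRel G :=
  nrel_of_cent (c := 1) (e := n % r) hr hr2 hn (by intro h; rw [h] at hrn; norm_num at hrn)
    (fun x hx => by rw [hc x hx, mul_one]) (Nat.mod_lt _ hr.pos) (by rw [one_mul, Nat.mod_mod]) hrn

end Cfsg.Agent.H306.SR
end

-- part: H306/SR/Hs
section
/-!
# TEAM SR (S4971): `HS`, `McL`, `J3` have non-real elements (helper306)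

Orders 11, 11, 19 : self-centralizing, automizers of orders 5, 5, 9.
-/

set_option autoImplicit false

namespace Cfsg.Agent.H306.SR

open Subgroup Cfsg.Agent.H721.SR

universe u

variable {K : Type u} [Group K]

theorem nrel_hs (h : Cfsg.Spor.IsoHS K) : NRel K := by
  have hc := NotCT.Orders.hs h
  have hfin : Finite K := Nat.finite_of_card_ne_zero (by rw [hc]; norm_num)
  exact nrel_of_self_cent (r := 11) (n := 4032000) (by norm_num) (by norm_num) (by rw [hc]) (by norm_num)
    fun x hx => H904.HSIso.card_eleven h hx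

theorem nrel_mcl (h : Cfsg.Spor.IsoMcL K) : NRel K := by
  have hc := NotCT.Orders.mcl h
  have hfin : Finite K := Nat.finite_of_card_ne_zero (by rw [hc]; norm_num)
  refine nrel_of_self_cent (r := 11) (n := 81648000) (by norm_num) (by norm_num) (by rw [hc]) (by norm_num)
    fun x hx => ?_
  rw [← H904.SylOne.centralizer_zpowers_eq]
  exact (H904.McLCent.eleven h (zpowers x) (by rw [Nat.card_zpowers, hx])).1

theorem nrel_j3 (h : Cfsg.Spor.IsoJ3 K) : NRel K := by
  have hc := NotCT.Orders.j3 h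
  have hfin : Finite K := Nat.finite_of_card_ne_zero (by rw [hc]; norm_num)
  exact nrel_of_self_cent (r := 19) (n := 2643840) (by norm_num) (by norm_num) (by rw [hc]) (by norm_num)
    fun x hx => H898.J3Cent.card_nineteen h hx

end Cfsg.Agent.H306.SR
end

-- part: H559/SR/Fi
section
/-!
# TEAM SR (S4971, S4970), rows `Fi22`, `Fi23`, `Fi24'` (helper559)

An element `x` of order 11 in `Fi22` (`|C(x)| = 22`, `|N(⟨x⟩)| = 110`), of order 23 in `Fi23` (`23`, `253`), of order 23 in
`Fi24` (`46`, `506`) is not real: `2 |C(x)|` does not divide `|N(⟨x⟩)|`.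
-/

set_option autoImplicit false

namespace Cfsg.Agent.H559.SR

open Subgroup Cfsg Cfsg.Agent.H721.SR

/-- an element of odd prime order with `2 |C(x)| ∤ |N(⟨x⟩)|` is not real -/
theorem not_real_of {G : Type*} [Group G] [Finite G] {x : G} {p : ℕ} (hp : p.Prime) (hp2 : p ≠ 2) (hx : orderOf x = p)
    (h : ¬ 2 * Nat.card (centralizer ({x} : Set G)) ∣ Nat.card (normalizer ((zpowers x : Subgroup G) : Set G))) :
    ¬ IsConj x x⁻¹ := by
  intro hc
  refine h (Cfsg.Agent.H306.SR.two_dvd_of_real ?_ hc)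
  intro h1
  have h2 : orderOf x ∣ 2 := orderOf_dvd_of_pow_eq_one (by rw [pow_two, h1])
  rw [hx] at h2
  exact hp2 ((Nat.prime_dvd_prime_iff_eq hp Nat.prime_two).1 h2)

theorem cent_zpowers {G : Type*} [Group G] (x : G) :
    centralizer ((zpowers x : Subgroup G) : Set G) = centralizer ({x} : Set G) := by
  rw [zpowers_eq_closure, centralizer_closure]

/-! ### `Fi22` -/

theorem nrel_fi22 {S : Type*} [Group S] (h : Spor.IsoFi22 S) : NRel S := by
  obtain ⟨e⟩ := h
  have I := Cfsg.Agent.H836.inv_of_iso e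
  have hfin : Finite S := I.ctx.finite
  have hp : Fact (Nat.Prime 11) := ⟨by norm_num⟩
  obtain ⟨x, hx⟩ := exists_prime_orderOf_dvd_card' (G := S) 11 (by rw [I.ctx.card]; norm_num)
  refine ⟨x, not_real_of hp.out (by norm_num) hx ?_⟩
  have h1 := Cfsg.Agent.H836.Main.card_normalizer_eleven I (X := zpowers x) (by rw [Nat.card_zpowers, hx])
  have h2 := I.card_eleven (y := x) (by rw [← hx, pow_orderOf_eq_one])
    (by rintro rfl; rw [orderOf_one] at hx; norm_num at hx)
  rw [h1, h2]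
  norm_num

/-! ### `Fi23` -/

theorem nrel_fi23 {S : Type*} [Group S] (h : Spor.IsoFi23 S) : NRel S := by
  obtain ⟨e⟩ := h
  refine NRel.congr e.symm ?_
  have hp : Fact (Nat.Prime 23) := ⟨by norm_num⟩
  have hfin : Finite Spor.Fi23 := Nat.finite_of_card_ne_zero (by rw [Cfsg.Agent.LThreeFi23.card_G]; norm_num)
  obtain ⟨x, hx⟩ := exists_prime_orderOf_dvd_card' (G := Spor.Fi23) 23 (by rw [Cfsg.Agent.LThreeFi23.card_G]; norm_num)
  refine ⟨x, not_real_of hp.out (by norm_num) hx ?_⟩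
  obtain ⟨h1, h2⟩ := Cfsg.Agent.H839.Fi23.twentythree_main (zpowers x) (by rw [Nat.card_zpowers, hx])
  rw [h1, ← cent_zpowers, h2, Nat.card_zpowers, hx]
  norm_num

/-! ### `Fi24'` -/

theorem nrel_fi24 {S : Type*} [Group S] (h : Spor.IsoFi24' S) : NRel S := by
  obtain ⟨e⟩ := h
  refine NRel.congr e.symm ?_
  have hfin : Finite Spor.Fi24 := Cfsg.Agent.R08.FiTwentyFour.finite_Fi24
  have hord := Cfsg.Agent.H843.D23.order
  have hx : Cfsg.Agent.H843.D23.D.x ∈ commutator Spor.Fi24 :=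
    Cfsg.Agent.H843.Fi24N.mem_commutator (by rw [hord]; decide)
  refine ⟨⟨_, hx⟩, not_real_of_map (commutator Spor.Fi24).subtype ?_⟩
  refine not_real_of (p := 23) (x := Cfsg.Agent.H843.D23.D.x) (by norm_num) (by norm_num) hord ?_
  obtain ⟨h1, h2⟩ := Cfsg.Agent.H843.D23.main
  rw [cent_zpowers] at h2
  rw [h2]
  intro h3
  rw [show Nat.card (normalizer ((zpowers Cfsg.Agent.H843.D23.D.x : Subgroup Spor.Fi24) : Set Spor.Fi24)) = 11 * 46 from h1]
    at h3
  norm_num at h3

/-! ### the rows -/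

end Cfsg.Agent.H559.SR
end

-- part: H893/SR/PSpThree
section
/-!
# S4971, row SR-PSP3: in `PSp_{2m}(q)`, `q ≡ 3 mod 4`, a transvection is not real (helper893)
-/

set_option autoImplicit false

namespace Cfsg.Agent.H893.SR

open Matrix Cfsg.Agent.H721.SR Cfsg.Agent.LieClassical Cfsg.Agent.LieClassical.SympTransvection

theorem om_mulVec {l F : Type*} [DecidableEq l] [Fintype l] [Field F] (A : symplecticGroup l F) (u v : l ⊕ l → F) :
    om (A.1 *ᵥ u) (A.1 *ᵥ v) = om u v := by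
  rw [om_def, om_def, mulVec_mulVec]
  have h1 : (A.1)ᵀ * J l F * A.1 = J l F := SymplecticGroup.mem_iff'.1 A.2
  calc A.1 *ᵥ u ⬝ᵥ ((J l F * A.1) *ᵥ v) = u ⬝ᵥ ((A.1)ᵀ *ᵥ ((J l F * A.1) *ᵥ v)) := by
        rw [dotProduct_mulVec u, vecMul_transpose]
    _ = u ⬝ᵥ (((A.1)ᵀ * J l F * A.1) *ᵥ v) := by rw [mulVec_mulVec, Matrix.mul_assoc]
    _ = u ⬝ᵥ (J l F *ᵥ v) := by rw [h1]

theorem nrel_psp {F : Type} [Field F] [Fintype F] {m : ℕ} (hm : 1 ≤ m) (hF : Fintype.card F % 4 = 3) :
    NRel (Cfsg.PSp m F) := by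
  classical
  let u : Fin m ⊕ Fin m → F := Pi.single (Sum.inl ⟨0, by omega⟩) 1
  have hu : u ≠ 0 := by
    intro h
    have := congrFun h (Sum.inl ⟨0, by omega⟩)
    simp [u] at this
  refine ⟨QuotientGroup.mk (tvS 1 u), fun hc => ?_⟩
  obtain ⟨X, hX⟩ := isConj_iff.1 hc
  obtain ⟨x, rfl⟩ := QuotientGroup.mk_surjective X
  have h1 : ((x * tvS 1 u * x⁻¹ * tvS 1 u : symplecticGroup (Fin m) F) : Cfsg.PSp m F) = 1 := by
    rw [QuotientGroup.mk_mul, QuotientGroup.mk_mul, QuotientGroup.mk_mul, QuotientGroup.mk_inv, hX, inv_mul_cancel]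
  rw [QuotientGroup.eq_one_iff] at h1
  obtain ⟨a, ha⟩ := (SympCenter.mem_center_iff m _).1 h1
  set y : symplecticGroup (Fin m) F := x⁻¹ with hy
  have h2 : (tvS 1 u * y * tvS 1 u).1 = a • y.1 := by
    have h3 : tvS 1 u * y * tvS 1 u = y * (x * tvS 1 u * y * tvS 1 u) := by
      rw [hy]; group
    rw [h3]
    show y.1 * (x * tvS 1 u * y * tvS 1 u).1 = _
    rw [ha]
    simp
  have h4 : ∀ v, tv 1 u *ᵥ (y.1 *ᵥ (tv 1 u *ᵥ v)) = a • (y.1 *ᵥ v) := by
    intro v
    have h5 : (tvS 1 u * y * tvS 1 u).1 = tv 1 u * y.1 * tv 1 u := rfl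
    rw [← smul_mulVec, ← h2, h5, mulVec_mulVec, mulVec_mulVec]
  set w := y.1 *ᵥ u with hw
  have hw0 : w ≠ 0 := by
    intro h0
    obtain ⟨v, hv⟩ := exists_om_ne_zero hu
    apply hv
    rw [← om_mulVec y, ← hw, h0]
    simp only [om_def, _root_.Matrix.mulVec_mulVec, _root_.zero_dotProduct]
  have h6 : w + om w u • u = a • w := by
    have := h4 u
    rw [tv_mulVec 1 u u, om_self, mul_zero, zero_smul, add_zero, tv_mulVec, one_mul] at this
    exact this
  have h7 : om w u = 0 := by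
    have h8 := congrArg (om w) h6
    rw [om_add_right, om_smul_right, om_smul_right, om_self, zero_add, mul_zero] at h8
    exact mul_self_eq_zero.1 h8
  have ha1 : a = 1 := by
    rw [h7, zero_smul, add_zero] at h6
    by_contra hne
    apply hw0
    have h9 : (a - 1) • w = 0 := by
      rw [sub_smul, one_smul, ← h6, sub_self]
    exact (smul_eq_zero.1 h9).resolve_left (sub_ne_zero.2 hne)
  obtain ⟨v, hv⟩ := exists_om_ne_zero hu
  have hv' : om v u ≠ 0 := by
    rw [om_swap]
    exact neg_ne_zero.2 hv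
  have h10 : om v u • w + om (y.1 *ᵥ v) u • u = 0 := by
    have := h4 v
    rw [ha1, one_smul, tv_mulVec 1 u v, mulVec_add, mulVec_smul, ← hw, tv_mulVec, om_add_left, om_smul_left, h7,
      mul_zero, add_zero, one_mul, one_mul, add_assoc] at this
    exact add_eq_left.1 this
  have h11 : om (y.1 *ᵥ v) w = om v u := om_mulVec y v u
  have h12 : om v u * om v u + om (y.1 *ᵥ v) u * om (y.1 *ᵥ v) u = 0 := by
    have := congrArg (om (y.1 *ᵥ v)) h10
    rw [om_add_right, om_smul_right, om_smul_right, h11] at this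
    rw [this]
    simp only [om_def, _root_.Matrix.mulVec_zero, _root_.dotProduct_zero]
  have h13 : IsSquare (-1 : F) := by
    refine ⟨om (y.1 *ᵥ v) u * (om v u)⁻¹, ?_⟩
    field_simp
    linear_combination -h12
  exact (FiniteField.isSquare_neg_one_iff.1 h13) hF

end Cfsg.Agent.H893.SR
end

-- part: H291/SR/He
section
/-! `He` has a non-real element: `z * y` with `C(z) = 2^(1+6) : L3(2)` and `y` of order 7. -/

set_option autoImplicit false

namespace Cfsg.Agent.H291.SR.He

open Cfsg Cfsg.Agent.H721.SR Cfsg.Agent.SporadicRecognition.HeldModel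

/-- lifting an element of odd order to an element of odd order -/
theorem exists_odd_lift {C K : Type*} [Group C] [Finite C] [Group K] (f : C →* K) (x : C)
    (hx : Odd (orderOf (f x))) : ∃ y : C, Odd (orderOf y) ∧ f y = f x := by
  obtain ⟨k, m, hm, hkm⟩ := Nat.exists_eq_two_pow_mul_odd (n := orderOf x) (orderOf_pos x).ne'
  have hco : Nat.Coprime (2 ^ k) (orderOf (f x)) :=
    Nat.Coprime.pow_left k ((Nat.coprime_two_left).2 hx)
  obtain ⟨e, he1, he2⟩ := Nat.chineseRemainder hco 0 1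
  refine ⟨x ^ e, ?_, ?_⟩
  · have h1 : orderOf (x ^ e) ∣ m := by
      apply orderOf_dvd_of_pow_eq_one
      rw [← pow_mul]
      apply orderOf_dvd_iff_pow_eq_one.1
      rw [hkm]
      exact Nat.mul_dvd_mul_right ((Nat.modEq_zero_iff_dvd).1 he1) m
    exact Odd.of_dvd_nat hm h1
  · rw [map_pow]
    have h2 : f x ^ e = f x ^ 1 := (pow_eq_pow_iff_modEq).2 he2
    rw [h2, pow_one]

/-- an element of order 7 of `SL(3, 2)` -/
def M : L3 := ⟨!![0, 0, 1; 1, 0, 1; 0, 1, 0], by decide +kernel⟩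

theorem M_pow : M ^ 7 = 1 := by
  apply Subtype.ext
  change (!![0, 0, 1; 1, 0, 1; 0, 1, 0] : Matrix (Fin 3) (Fin 3) (ZMod 2)) ^ 7 = 1
  decide +kernel

theorem not_isConj_M : ¬ IsConj M M⁻¹ := by
  intro hc
  have hinv : M⁻¹ = M ^ 6 := inv_eq_of_mul_eq_one_left (by rw [← pow_succ]; exact M_pow)
  rw [hinv] at hc
  obtain ⟨t, ht⟩ := isConj_iff.1 hc
  have h1 : Matrix.trace ((t * M * t⁻¹ : L3) : Matrix (Fin 3) (Fin 3) (ZMod 2)) =
      Matrix.trace (M : Matrix (Fin 3) (Fin 3) (ZMod 2)) := by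
    have h2 : ((t * M * t⁻¹ : L3) : Matrix (Fin 3) (Fin 3) (ZMod 2)) =
        (t : Matrix (Fin 3) (Fin 3) (ZMod 2)) * (M : Matrix (Fin 3) (Fin 3) (ZMod 2)) *
          ((t⁻¹ : L3) : Matrix (Fin 3) (Fin 3) (ZMod 2)) := rfl
    have h3 : ((t⁻¹ : L3) : Matrix (Fin 3) (Fin 3) (ZMod 2)) * (t : Matrix (Fin 3) (Fin 3) (ZMod 2)) = 1 :=
      congrArg Subtype.val (inv_mul_cancel t)
    rw [h2, Matrix.trace_mul_comm, ← Matrix.mul_assoc, h3, Matrix.one_mul]
  rw [ht] at h1
  have h4 : ((M ^ 6 : L3) : Matrix (Fin 3) (Fin 3) (ZMod 2)) =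
      (!![0, 0, 1; 1, 0, 1; 0, 1, 0] : Matrix (Fin 3) (Fin 3) (ZMod 2)) ^ 6 := rfl
  rw [h4] at h1
  revert h1
  change ¬ (Matrix.trace ((!![0, 0, 1; 1, 0, 1; 0, 1, 0] : Matrix (Fin 3) (Fin 3) (ZMod 2)) ^ 6) =
    Matrix.trace (!![0, 0, 1; 1, 0, 1; 0, 1, 0] : Matrix (Fin 3) (Fin 3) (ZMod 2)))
  decide +kernel

theorem toL3_zC : toL3 zC = 1 := by
  apply Subtype.ext
  show mid (zz : Matrix (Fin 5) (Fin 5) (ZMod 2)) = 1
  rw [coe_zz]
  decide +kernel

/-- a group with an involution centraliser `2^(1+6) : L3(2)` has a non-real element -/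
theorem nrel_of_hyp {G : Type*} [Group G] {z : G} {ι : CC →* G} (h : Hyp z ι) : NRel G := by
  have hfin : Finite CC := Nat.finite_of_card_ne_zero (by rw [card_CC]; norm_num)
  let e1 : CC ≃* ι.range := MonoidHom.ofInjective h.inj
  let e2 : ι.range ≃* ↥(Subgroup.centralizer ({z} : Set G)) := MulEquiv.subgroupCongr h.range
  have hfC : Finite ↥(Subgroup.centralizer ({z} : Set G)) := Finite.of_equiv _ (e1.trans e2).toEquiv
  let f : ↥(Subgroup.centralizer ({z} : Set G)) →* L3 := toL3.comp (e1.trans e2).symm.toMonoidHom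
  have hf : Function.Surjective f := toL3_surjective.comp (e1.trans e2).symm.surjective
  obtain ⟨x, hx⟩ := hf M
  obtain ⟨y, hy1, hy2⟩ := exists_odd_lift f x (by
    rw [hx]
    exact Odd.of_dvd_nat (by decide : Odd 7) (orderOf_dvd_of_pow_eq_one M_pow))
  have hval : ∀ hzc : z ∈ Subgroup.centralizer ({z} : Set G), (e1.trans e2).symm ⟨z, hzc⟩ = zC := by
    intro hzc
    rw [MulEquiv.symm_apply_eq]
    apply Subtype.ext
    exact h.map_zz.symm
  have hzz : z * z = 1 := by
    rw [← h.map_zz, ← map_mul]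
    have : zC * zC = 1 := by
      apply Subtype.ext
      apply Subtype.ext
      show (zz : Matrix (Fin 5) (Fin 5) (ZMod 2)) * (zz : Matrix (Fin 5) (Fin 5) (ZMod 2)) = 1
      rw [coe_zz]
      decide +kernel
    rw [this, map_one]
  refine nrel_of_centralizer_odd hzz f y hy1 ?_ (by rw [hy2, hx]; exact not_isConj_M)
  intro hzc
  show toL3 ((e1.trans e2).symm ⟨z, hzc⟩) = 1
  rw [hval, toL3_zC]

/-- **`He` has a non-real element.** -/
theorem nrel_he {G : Type*} [Group G] (h : Spor.IsoHe G) : NRel G := by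
  obtain ⟨e⟩ := h
  exact NRel.congr e.symm (nrel_of_hyp Cfsg.Agent.KFacts.He.Hyp.hyp)

end Cfsg.Agent.H291.SR.He
end

-- part: H243/SRCo
section
/-!
# Elements of prime order which are not real, by counting Sylow subgroups (helper243)

* `not_real_of_sc` : `C(x) = ⟨x⟩` of prime order `p`, `p ∥ |G|`, `|G| / p mod p` odd: `x` is not real;
* `not_real_co1`, `not_real_co2`, `not_real_co3` : `p = 23`;
* `not_real_of_inc` : the subgroups of `Co0` without `-1`.
-/

set_option autoImplicit false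

namespace Cfsg.Agent.H243.SRCo

open Subgroup Cfsg Cfsg.Agent.H721.SR Cfsg.Agent.H537.Cop

/-- an element inverted by an element of odd order has square one -/
theorem sq_eq_of_inv_odd {G : Type*} [Group G] {t x : G} (h : t * x * t⁻¹ = x⁻¹) (ho : Odd (orderOf t)) : x * x = 1 := by
  have h2 : Commute (t * t) x := by
    have h3 : t * t * x * (t * t)⁻¹ = x := by
      calc t * t * x * (t * t)⁻¹ = t * (t * x * t⁻¹) * t⁻¹ := by group
        _ = t * x⁻¹ * t⁻¹ := by rw [h]
        _ = (t * x * t⁻¹)⁻¹ := by group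
        _ = x := by rw [h, inv_inv]
    exact mul_inv_eq_iff_eq_mul.1 h3
  have h4 : Commute t x := by
    obtain ⟨k, hk⟩ := ho
    have h5 : (t * t) ^ (k + 1) = t := by
      rw [← pow_two, ← pow_mul, show 2 * (k + 1) = (2 * k + 1) + 1 by ring, pow_succ, ← hk, pow_orderOf_eq_one, one_mul]
    have h6 := h2.pow_left (k + 1)
    rwa [h5] at h6
  have h7 : t * x * t⁻¹ = x := by rw [h4.eq, mul_inv_cancel_right]
  rw [h7] at h
  calc x * x = x * x⁻¹ := by rw [← h]
    _ = 1 := mul_inv_cancel x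

theorem not_real_of_sc {G : Type*} [Group G] [Finite G] {p : ℕ} (hp : p.Prime) (hp2 : p ≠ 2)
    (hpp : ¬ p ^ 2 ∣ Nat.card G) (h : SC p G) (ho : Nat.card G / p % p % 2 = 1) {x : G} (hx : orderOf x = p) :
    ¬ IsConj x x⁻¹ := by
  intro hc
  obtain ⟨t, ht⟩ := isConj_iff.1 hc
  have hn := SC.card_norm hp hpp h hx
  have htn : t ∈ normalizer (zpowers x : Set G) := by
    rw [mem_normalizer_iff]
    have key : ∀ s : G, s * x * s⁻¹ = x⁻¹ → ∀ g ∈ zpowers x, s * g * s⁻¹ ∈ zpowers x := by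
      rintro s hs g ⟨k, rfl⟩
      refine ⟨-k, ?_⟩
      show x ^ (-k) = s * x ^ k * s⁻¹
      rw [← conj_zpow, hs, inv_zpow, zpow_neg]
    intro g
    refine ⟨fun hg => key t ht g hg, fun hg => ?_⟩
    have ht' : t⁻¹ * x * t⁻¹⁻¹ = x⁻¹ := by
      rw [inv_inv]
      calc t⁻¹ * x * t = t⁻¹ * (x⁻¹)⁻¹ * t := by rw [inv_inv]
        _ = t⁻¹ * (t * x * t⁻¹)⁻¹ * t := by rw [ht]
        _ = x⁻¹ := by group
    have h1 := key t⁻¹ ht' _ hg
    have h2 : t⁻¹ * (t * g * t⁻¹) * t⁻¹⁻¹ = g := by group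
    rwa [h2] at h1
  have hd : orderOf t ∣ Nat.card (normalizer (zpowers x : Set G)) := by
    have h1 := _root_.orderOf_dvd_natCard (⟨t, htn⟩ : normalizer (zpowers x : Set G))
    rwa [Subgroup.orderOf_mk] at h1
  have hodd : Odd (Nat.card (normalizer (zpowers x : Set G))) := by
    rw [hn]
    exact (hp.odd_of_ne_two hp2).mul (Nat.odd_iff.2 ho)
  have h1 := sq_eq_of_inv_odd ht (Odd.of_dvd_nat hodd hd)
  have h2 : orderOf x ∣ 2 := orderOf_dvd_of_pow_eq_one (by rw [pow_two, h1])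
  rw [hx] at h2
  exact hp2 ((Nat.prime_dvd_prime_iff_eq hp Nat.prime_two).1 h2)

/-! ### Conway groups -/

open Cfsg.Agent.H604.Cop.Conway
open Cfsg.Spor (Co1 Co2 Co3)

theorem card_co1 : Nat.card Co1 = 4157776806543360000 := Cfsg.Agent.BpSpor.MBigCo.card_co1

theorem sc_co1 : SC 23 Co1 := by
  have hf := Cfsg.Agent.BpSpor.MBigCo.finite_co1
  intro x hx
  have h23 : Fact (Nat.Prime 23) := ⟨by norm_num⟩
  have hpp : ¬ 23 ^ 2 ∣ Nat.card Co1 := by rw [card_co1]; norm_num
  obtain ⟨S, hS⟩ := sylow_of_order (by norm_num) hpp hx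
  obtain ⟨T, hT⟩ := sylow_of_order (by norm_num) hpp orderOf_s23
  obtain ⟨g, hg⟩ := MulAction.exists_smul_eq Co1 T S
  have h1 : MulAut.conj g s23 ∈ zpowers x := by
    rw [← hS, ← hg]
    have : s23 ∈ (T : Subgroup Co1) := by rw [hT]; exact mem_zpowers _
    exact ⟨s23, this, rfl⟩
  obtain ⟨k, hk⟩ := mem_zpowers_iff.1 h1
  have h2 : centralizer ({x} : Set Co1) ≤ centralizer ({MulAut.conj g s23} : Set Co1) := by
    intro y hy
    rw [mem_centralizer_singleton_iff] at hy ⊢
    rw [← hk]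
    exact ((show Commute y x from hy).zpow_right k).eq
  have h3 : Nat.card (centralizer ({MulAut.conj g s23} : Set Co1)) ≤ 23 := by
    rw [← card_centralizer_equiv (MulAut.conj g) s23]
    exact card_cent_s23
  have h4 := card_eq hx ((Nat.card_le_card_of_injective _ (Subgroup.inclusion_injective h2)).trans h3)
  rw [h4, hx]

theorem not_real_co1 {x : Co1} (hx : orderOf x = 23) : ¬ IsConj x x⁻¹ := by
  have hf := Cfsg.Agent.BpSpor.MBigCo.finite_co1
  exact not_real_of_sc (by norm_num) (by norm_num) (by rw [card_co1]; norm_num) sc_co1 (by rw [card_co1]) hx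

/-- subgroups of `Co0` without `-1` -/
theorem not_real_of_inc {K : Type*} [Group K] [Finite K] (i : K →* Co0) (hi : Function.Injective i)
    (hZ : ∀ g : K, i g ≠ Cfsg.Agent.SporadicA.Co0Mono.signCo0 Cfsg.Agent.SporadicA.Co1Simple.allOne)
    (hpp : ¬ 23 ^ 2 ∣ Nat.card K) (ho : Nat.card K / 23 % 23 % 2 = 1) {x : K} (hx : orderOf x = 23) :
    ¬ IsConj x x⁻¹ :=
  not_real_of_sc (by norm_num) (by norm_num) hpp (card_cent_of_inc i hi hZ) ho hx

end Cfsg.Agent.H243.SRCo
end

-- part: H243/SRB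
section
/-!
# An element of the Baby Monster which is not real (helper243)

`nrel_b` : `z y`, `z` the central involution of `2^{1+22}.Co2`, `y` of order 23.
-/

set_option autoImplicit false
set_option maxRecDepth 100000

namespace Cfsg.Agent.H243.SRB

open Subgroup Cfsg Cfsg.Agent.H721.SR Cfsg.Agent.BabyM Cfsg.Agent.BabyM.Model Cfsg.Agent.BabyU.ClosModel

local notation "K0" => Cfsg.Agent.BabyM.GroupInst.K₀
local notation "l0" => Cfsg.Agent.BabyM.Co2GenStd.l₀

theorem not_real_k0 {x : K0} (hx : orderOf x = 23) : ¬ IsConj x x⁻¹ := by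
  have hc : Nat.card K0 = 42305421312000 := Cfsg.Agent.BabyM.GroupInst.card
  have hf : Finite K0 := Nat.finite_of_card_ne_zero (by rw [hc]; norm_num)
  refine SRCo.not_real_of_inc (MulAction.stabilizer Cfsg.Co0 l0).subtype (Subgroup.subtype_injective _) ?_
    (by rw [hc]; norm_num) (by rw [hc]) hx
  intro g hg
  have h1 : (g : Cfsg.Co0) • l0 = l0 := g.2
  have h2 : ((MulAction.stabilizer Cfsg.Co0 l0).subtype g) = (g : Cfsg.Co0) := rfl
  rw [h2] at hg
  rw [hg, Cfsg.Agent.SporadicA.Co1Simple.allOne_smul] at h1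
  have h3 := Cfsg.Agent.BabyM.GroupInst.dt_l₀
  have h4 := Cfsg.Agent.SporadicStructure.Co2RankThree.dt_neg_left l0 l0
  rw [h1, h3] at h4
  omega

/-- an element of order 23 of a centralizer whose quotient has elements of order 23 -/
theorem exists_lift {C K : Type*} [Group C] [Finite C] [Group K] [Finite K] (π : C →* K) (hπ : Function.Surjective π)
    (hK : 23 ∣ Nat.card K) (hk : ¬ 23 ∣ Nat.card π.ker) : ∃ y : C, orderOf y = 23 ∧ orderOf (π y) = 23 := by
  have h23 : Fact (Nat.Prime 23) := ⟨by norm_num⟩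
  have h1 : Nat.card C = Nat.card π.ker * Nat.card K := by
    rw [← Subgroup.card_mul_index π.ker, Subgroup.index_ker, MonoidHom.range_eq_top.2 hπ, Subgroup.card_top]
  obtain ⟨y, hy⟩ := exists_prime_orderOf_dvd_card' (G := C) 23 (by rw [h1]; exact hK.mul_left _)
  refine ⟨y, hy, ?_⟩
  have h2 : orderOf (π y) ∣ 23 := by rw [← hy]; exact orderOf_map_dvd π y
  rcases (Nat.dvd_prime (by norm_num)).1 h2 with h3 | h3
  · exfalso
    have h4 : y ∈ π.ker := by rw [MonoidHom.mem_ker]; exact orderOf_eq_one_iff.1 h3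
    have h5 := _root_.orderOf_dvd_natCard (⟨y, h4⟩ : π.ker)
    rw [Subgroup.orderOf_mk, hy] at h5
    exact hk h5
  · exact h3

/-- the group of the model -/
abbrev BG : Type := ↥Cfsg.Agent.BabyM.Inst.M.G

theorem nrel_model : NRel BG := by
  have A := Cfsg.Agent.BabyM.Instance.all
  have hfin : Finite BG := A.finite_G
  obtain ⟨π, hπ, hk⟩ := Cfsg.Agent.KFacts.Baby.Inst.quot A
  have hc : Nat.card K0 = 42305421312000 := Cfsg.Agent.BabyM.GroupInst.card
  have hf : Finite K0 := Nat.finite_of_card_ne_zero (by rw [hc]; norm_num)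
  have hcard : Nat.card (centralizer ({zz A} : Set BG)) = 2 ^ 23 * 42305421312000 := by
    rw [Nat.card_congr (Cfsg.Agent.KFacts.Baby.Inst.eC A).toEquiv, A.grp.card_C]
  have hkc : Nat.card π.ker = 2 ^ 23 := by
    have h1 : Nat.card (centralizer ({zz A} : Set BG)) = Nat.card π.ker * Nat.card K0 := by
      rw [← Subgroup.card_mul_index π.ker, Subgroup.index_ker, MonoidHom.range_eq_top.2 hπ, Subgroup.card_top]
    rw [hcard, hc] at h1
    exact (Nat.eq_of_mul_eq_mul_right (by norm_num) h1).symm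
  obtain ⟨y, hy, hy'⟩ := exists_lift π hπ (by rw [hc]; norm_num) (by rw [hkc]; norm_num)
  refine nrel_of_centralizer_odd (z := zz A) (z_sq A) π y (by rw [hy]; decide) ?_ (not_real_k0 hy')
  intro h
  rw [hk]
  exact zP A

/-- **The Baby Monster has an element which is not real.** -/
theorem nrel_b {K : Type*} [Group K] (h : Spor.IsoB K) : NRel K := by
  obtain ⟨e⟩ := Cfsg.Agent.KFacts.Baby.RowB.exists_iso h
  exact NRel.congr e nrel_model

/-- **The row of the Baby Monster.** -/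
theorem rr_b {K : Type*} [Group K] (h : Spor.IsoB K) : RR K := RR.of_nrel (nrel_b h)

end Cfsg.Agent.H243.SRB
end

-- part: H243/SRM
section
/-!
# An element of the Monster which is not real (helper243)

`nrel_m` : `z y`, `z` the central involution of `2^{1+24}.Co1`, `y` of odd order with image of order 23 in `Co1`.
-/

set_option autoImplicit false
set_option maxRecDepth 100000

namespace Cfsg.Agent.H243.SRM

open Cfsg Cfsg.Agent.H721.SR Cfsg.Agent.MonsterX Cfsg.Agent.MonsterX.InstData Cfsg.Agent.MonsterX.MainPack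
open Cfsg.Agent.MonsterU Cfsg.Agent.MonsterU.Ch Cfsg.Agent.MonsterU.Lam2
open Cfsg.Agent.LThreeMB
open Cfsg.Agent.MonsterX.MainBasic Cfsg.Agent.MonsterX.MainSimple Cfsg.Agent.MonsterX.Model
open Cfsg.Spor (Co1)
open Subgroup (centralizer mem_centralizer_singleton_iff)

/-- an element of odd order above an element of odd prime order -/
theorem exists_odd_lift {C K : Type*} [Group C] [Finite C] [Group K] (π : C →* K) (hπ : Function.Surjective π)
    {s : K} (hs : Odd (orderOf s)) : ∃ y : C, Odd (orderOf y) ∧ orderOf (π y) = orderOf s := by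
  obtain ⟨c, rfl⟩ := hπ s
  obtain ⟨k, m, hm, hk⟩ := Nat.exists_eq_two_pow_mul_odd (n := orderOf c) (orderOf_pos c).ne'
  refine ⟨c ^ 2 ^ k, ?_, ?_⟩
  · rw [orderOf_pow_of_dvd (by positivity) (by rw [hk]; exact Dvd.intro _ rfl), hk, Nat.mul_div_cancel_left _ (by positivity)]
    exact hm
  · rw [map_pow]
    exact (Nat.Coprime.orderOf_pow (Nat.Coprime.pow_right k (Nat.coprime_two_right.2 hs)))

/-- the group of the model -/
abbrev MG : Type := ↥InstData.M.G

theorem hc : KChart.Cent KDone.K :=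
  LThreeMB.Model.cent KDone.lnk KDone.mGroup KDone.mRep KDone.mLat Uncond.mOrbit Instance.mTrans

theorem finite_model : Finite MG := G_finite Uncond.mOrbit

theorem nrel_model : NRel MG := by
  have hfin := finite_model
  have h := KChart.chart KDone.lft hc
  obtain ⟨y, hy, hy'⟩ := exists_odd_lift (KChart.pi hc) h.pi_surj (s := H604.Cop.Conway.s23)
    (by rw [H604.Cop.Conway.orderOf_s23]; decide)
  rw [H604.Cop.Conway.orderOf_s23] at hy'
  refine nrel_of_centralizer_odd (z := KDone.K.z) h.large.z_sq (KChart.pi hc) y hy ?_ (SRCo.not_real_co1 hy')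
  intro hz
  refine eq_of_smul fun v => ?_
  obtain ⟨x, hx, rfl⟩ := h.eta_surj v
  rw [one_smul, ← h.eta_conj ⟨KDone.K.z, hz⟩ x hx]
  congr 1
  show KDone.K.z * x * KDone.K.z⁻¹ = x
  rw [← h.large.comm_z x hx, mul_inv_cancel_right]

/-- **The Monster has an element which is not real.** -/
theorem nrel_m {K : Type*} [Group K] (h : Spor.IsoM K) : NRel K := by
  obtain ⟨e⟩ := h
  obtain ⟨f⟩ := Cfsg.Agent.MonsterP.Equiv.equiv
  exact NRel.congr (f.symm.trans e.symm) nrel_model

/-- **The row of the Monster.** -/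
theorem rr_m {K : Type*} [Group K] (h : Spor.IsoM K) : RR K := RR.of_nrel (nrel_m h)

end Cfsg.Agent.H243.SRM
end
end
end
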